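import Cfsg.Agent.Lib.HNRec.Recur
import Mathlib.Data.List.Permutation

/-!
# Checking a tree of the recursion on a finite model

The elements of the class inside the local subgroup are numbered, and an element built from them is
known from the images of a few base points.  A node of the tree names two of them whose colours
differ, and subtrees which together with their listed conjugates cover every middle element which is
not excluded.
-/

set_option autoImplicit false

namespace CfsgLib.HNRec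

/-- A search tree of keys. -/
inductive KTree
  | tip
  | bin (l : KTree) (k : List ℕ) (r : KTree)

/-- A tree of the recursion: the two elements of a node, the colour, the keys of the class modulo the
subgroup if the colour needs them, and the chain of the subtrees with witnesses and their points. -/
inductive Tree
  | node (a b sel : ℕ) (ae : KTree) (kids : Tree)
  | nil
  | cons (c : ℕ) (us : List (List ℕ)) (pts : List ℕ) (t : Tree) (ks : Tree)

/-- The subtrees of a chain. -/
def Tree.kidsL : Tree → List (ℕ × List (List ℕ) × List ℕ × Tree)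
  | .cons c us F' t ks => (c, us, F', t) :: ks.kidsL
  | _ => []

theorem Tree.sizeOf_kid : ∀ {ks : Tree} {c : ℕ} {us : List (List ℕ)} {F' : List ℕ} {t : Tree},
    (c, us, F', t) ∈ ks.kidsL → sizeOf t < sizeOf ks
  | .node .., _, _, _, _, h => by simp [Tree.kidsL] at h
  | .nil, _, _, _, _, h => by simp [Tree.kidsL] at h
  | .cons c us F' t ks, c', us', F'', t', h => by
    simp only [Tree.kidsL, List.mem_cons, Prod.mk.injEq] at h
    simp only [Tree.cons.sizeOf_spec]
    rcases h with ⟨-, -, -, rfl⟩ | h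
    · omega
    · have := Tree.sizeOf_kid h; omega

/-- The finite model: size, images under a letter, words of the elements, base points. -/
structure Tabs where
  N : ℕ
  act : ℕ → ℕ → ℕ
  word : ℕ → List ℕ
  base : List ℕ

namespace Tabs

/-- Equal lists of numbers. -/
def eqKey : List ℕ → List ℕ → Bool
  | [], [] => true
  | x :: k, y :: l => Nat.beq x y && eqKey k l
  | _, _ => false

theorem eqKey_iff : ∀ {k l : List ℕ}, eqKey k l = true ↔ k = l
  | [], [] => by simp [eqKey]
  | [], _ :: _ => by simp [eqKey]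
  | _ :: _, [] => by simp [eqKey]
  | x :: k, y :: l => by
    simp only [eqKey, Bool.and_eq_true, List.cons.injEq, eqKey_iff]
    exact and_congr_left' ⟨Nat.eq_of_beq_eq_true, fun h => h ▸ Nat.beq_refl x⟩

/-- A key is one of the listed ones. -/
def hasKey (K : List (List ℕ)) (k : List ℕ) : Bool := K.any (eqKey k)

theorem hasKey_iff {K : List (List ℕ)} {k : List ℕ} : hasKey K k = true ↔ k ∈ K := by
  simp [hasKey, eqKey_iff]

/-- Order of keys. -/
def ltKey : List ℕ → List ℕ → Bool
  | x :: k, y :: l => if Nat.beq x y then ltKey k l else Nat.blt x y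
  | [], _ :: _ => true
  | _, _ => false

/-- Membership in a search tree. -/
def memT : KTree → List ℕ → Bool
  | .tip, _ => false
  | .bin l k r, x => if eqKey x k then true else if ltKey x k then memT l x else memT r x

/-- The keys of a search tree. -/
def listT : KTree → List (List ℕ)
  | .tip => []
  | .bin l k r => listT l ++ k :: listT r

theorem listT_of_memT : ∀ {t : KTree} {x : List ℕ}, memT t x = true → x ∈ listT t
  | .tip, _, h => by simp [memT] at h
  | .bin l k r, x, h => by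
    simp only [memT] at h
    simp only [listT, List.mem_append, List.mem_cons]
    split at h
    · rename_i he; exact Or.inr (Or.inl (eqKey_iff.1 he))
    · split at h
      · exact Or.inl (listT_of_memT h)
      · exact Or.inr (Or.inr (listT_of_memT h))

variable (T : Tabs)

/-- The image of a point under one of the numbered elements. -/
def img (i x : ℕ) : ℕ := (T.word i).foldr T.act x

/-- The image of a point under a product of numbered elements. -/
def ev (w : List ℕ) (x : ℕ) : ℕ := w.foldr T.img x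

/-- The images of the base points. -/
def key (w : List ℕ) : List ℕ := T.base.map (T.ev w)

/-- A product is one of the listed ones. -/
def memL (L : List (List ℕ)) (w : List ℕ) : Bool := hasKey (L.map T.key) (T.key w)

/-- The number of fixed points in a list. -/
def colOne (F : List ℕ) (i : ℕ) : ℕ := (F.filter fun x => Nat.beq (T.img i x) x).length

/-- The number of products squaring into the listed subgroup. -/
def colTwo (L : List (List ℕ)) (F : List ℕ) (i : ℕ) : ℕ :=
  (F.filter fun x => T.memL L [i, x, i, x]).length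

/-- The number of points equal modulo the listed subgroup. -/
def colSame (L : List (List ℕ)) (F : List ℕ) (i : ℕ) : ℕ :=
  (F.filter fun x => T.memL L [i, x]).length

/-- The keys of the class modulo the listed subgroup. -/
def keysAE (L : List (List ℕ)) (F : List ℕ) : List (List ℕ) := F.flatMap fun y => L.map fun v => T.key (y :: v)

/-- The number of products lying in the listed class. -/
def colFour (K : KTree) (F : List ℕ) (i : ℕ) : ℕ := (F.filter fun x => memT K (T.key [i, x])).length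

/-- The search tree holds exactly the keys of the class modulo the subgroup. -/
def aeOk (K : KTree) (L : List (List ℕ)) (F : List ℕ) : Bool :=
  ((T.keysAE L F).all fun k => memT K k) && (listT K).all fun k => hasKey (T.keysAE L F) k

/-- The selected colour. -/
def colour (sel : ℕ) (K : KTree) (L : List (List ℕ)) (F : List ℕ) (i : ℕ) : ℕ :=
  match sel with
  | 0 => T.colOne F i
  | 1 => T.colTwo L F i
  | 2 => T.colSame L F i
  | _ => T.colFour K F i

/-- The selected colour tells two points apart. -/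
def differ (sel : ℕ) (K : KTree) (L : List (List ℕ)) (F : List ℕ) (i j : ℕ) : Bool :=
  !Nat.beq (T.colour sel K L F i) (T.colour sel K L F j)

/-- The list after adjoining an element. -/
def grow (L : List (List ℕ)) (p : List ℕ) : List (List ℕ) := L ++ L.map (· ++ p)

/-- The points stabilising the coset of an element. -/
def narrow (L : List (List ℕ)) (F : List ℕ) (p : List ℕ) : List ℕ :=
  F.filter fun x => T.memL L (x :: (p ++ (x :: p.reverse)))

/-- Every candidate is excluded, covered or of another colour. -/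
def candOk (C AE : List (List ℕ)) (K : KTree) (L : List (List ℕ)) (F : List ℕ) (a b sel : ℕ) : Bool :=
  F.all fun c => T.memL L [a, c] || !T.memL L [a, c, a, c] || hasKey C (T.key [a, c]) ||
    hasKey AE (T.key [a, c]) || (T.differ sel K L F a c && T.differ sel K L F b c)

/-- The keys of the listed conjugates of the cosets of the subtrees. -/
def coverKeys : List (ℕ × List (List ℕ) × List ℕ × Tree) → List (List ℕ) → ℕ → List (List ℕ)
  | [], _, _ => []
  | (c, us, _, _) :: ks, L, a =>
    (us.flatMap fun u => L.map fun v => T.key (v ++ (u ++ [a, c] ++ u.reverse))) ++ coverKeys ks L a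

/-- The check of a node apart from the subtrees. -/
def headOk (a b sel : ℕ) (K : KTree) (C : List (List ℕ)) (L : List (List ℕ)) (F : List ℕ) : Bool :=
  F.contains a && F.contains b && (Nat.blt sel 3 || T.aeOk K L F) &&
    (F.all fun c => !T.memL L [c, b] || T.differ sel K L F a c) &&
    T.candOk C (T.keysAE L F) K L F a b sel

mutual
/-- The check of a node. -/
def check : Tree → List (List ℕ) → List ℕ → Bool
  | .node a b sel K kids, L, F =>
    T.headOk a b sel K (T.coverKeys kids.kidsL L a) L F && checkKids kids L F a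
  | .nil, _, _ => false
  | .cons .., _, _ => false
/-- The check of the subtrees. -/
def checkKids : Tree → List (List ℕ) → List ℕ → ℕ → Bool
  | .node .., _, _, _ => true
  | .nil, _, _, _ => true
  | .cons c us F' t ks, L, F, a =>
    F.contains c && T.memL L [a, c, a, c] && (us.all fun u => u.all fun i => F.contains i) &&
      eqKey (T.narrow L F [a, c]) F' && check t (grow L [a, c]) F' && checkKids ks L F a
end

/-- A node from its parts. -/
theorem check_node {a b sel : ℕ} {K : KTree} {kids : Tree}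
    {L : List (List ℕ)} {F : List ℕ} (h : T.headOk a b sel K (T.coverKeys kids.kidsL L a) L F = true)
    (hk : T.checkKids kids L F a = true) : T.check (.node a b sel K kids) L F = true := by
  simp [check, h, hk]

theorem checkKids_nil {L : List (List ℕ)} {F : List ℕ} {a : ℕ} : T.checkKids .nil L F a = true := by
  simp only [checkKids]

/-- A subtree from its parts. -/
theorem checkKids_cons {c a : ℕ} {us : List (List ℕ)} {F' : List ℕ} {t : Tree}
    {ks : Tree} {L : List (List ℕ)} {F : List ℕ}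
    (h : (F.contains c && T.memL L [a, c, a, c] && (us.all fun u => u.all fun i => F.contains i)) = true)
    (hn : eqKey (T.narrow L F [a, c]) F' = true) (hc : T.check t (grow L [a, c]) F' = true)
    (hk : T.checkKids ks L F a = true) : T.checkKids (.cons c us F' t ks) L F a = true := by
  simp only [checkKids, h, hn, hc, hk, Bool.and_self]

end Tabs

variable {G : Type*} [Group G]

/-- The product of numbered elements. -/
def valL (el : ℕ → G) (w : List ℕ) : G := (w.map el).prod

/-- The model describes the class in the local subgroup. -/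
structure Frame (A : Set G) (X H0 E0 : Subgroup G) (T : Tabs) (el gv : ℕ → G) : Prop where
  ctrl : Ctrl A X
  E0X : E0 ≤ X
  E0H : E0 ≤ H0
  cen : ∀ e ∈ E0, ∀ g ∈ H0, Commute e g
  el_mem : ∀ i < T.N, el i ∈ A ∧ el i ∈ X ∧ el i ∈ H0
  complete : ∀ a ∈ A, a ∈ X → a ∈ H0 → ∃ i < T.N, el i = a
  inj : ∀ i < T.N, ∀ j < T.N, el i = el j → i = j
  gv_mem : ∀ i < T.N, ∀ g ∈ T.word i, gv g ∈ H0 ∧
    ∀ x < T.N, T.act g x < T.N ∧ gv g * el x * (gv g)⁻¹ = el (T.act g x)
  word_eq : ∀ i < T.N, el i * ((T.word i).map gv).prod⁻¹ ∈ E0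
  base_lt : ∀ b ∈ T.base, b < T.N
  faith : ∀ g ∈ H0, g ∈ Subgroup.closure (el '' Set.Iio T.N) → (∀ b ∈ T.base, Commute g (el b)) → g ∈ E0

variable {A : Set G} {X H0 E0 : Subgroup G} {T : Tabs} {el gv : ℕ → G}

theorem Frame.inv_el (F : Frame A X H0 E0 T el gv) {i : ℕ} (hi : i < T.N) : (el i)⁻¹ = el i :=
  inv_eq_of_mul_eq_one_right (F.ctrl.sq _ (F.el_mem i hi).1)

theorem Frame.img_spec (F : Frame A X H0 E0 T el gv) {i x : ℕ} (hi : i < T.N) (hx : x < T.N) :
    T.img i x < T.N ∧ el i * el x * (el i)⁻¹ = el (T.img i x) := by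
  have key : ∀ l : List ℕ, (∀ g ∈ l, g ∈ T.word i) → l.foldr T.act x < T.N ∧
      (l.map gv).prod * el x * (l.map gv).prod⁻¹ = el (l.foldr T.act x) := by
    intro l
    induction l with
    | nil => intro _; simp [hx]
    | cons g l ih =>
      intro hl
      obtain ⟨h1, h2⟩ := ih fun a ha => hl a (List.mem_cons_of_mem _ ha)
      obtain ⟨h3, h4⟩ := (F.gv_mem i hi g (hl g (List.mem_cons_self ..))).2 _ h1
      refine ⟨h3, ?_⟩
      rw [List.foldr_cons, ← h4, ← h2, List.map_cons, List.prod_cons]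
      group
  obtain ⟨h1, h2⟩ := key (T.word i) fun _ h => h
  refine ⟨h1, ?_⟩
  set w := ((T.word i).map gv).prod
  have hwH : w ∈ H0 := Subgroup.list_prod_mem _ fun a ha => by
    obtain ⟨g, hg, rfl⟩ := List.mem_map.1 ha
    exact (F.gv_mem i hi g hg).1
  have hc : Commute (el i * w⁻¹) (w * el x * w⁻¹) :=
    F.cen _ (F.word_eq i hi) _ (mul_mem (mul_mem hwH (F.el_mem x hx).2.2) (inv_mem hwH))
  calc el i * el x * (el i)⁻¹ = el i * w⁻¹ * (w * el x * w⁻¹) * (el i * w⁻¹)⁻¹ := by group
    _ = el (T.img i x) := by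
      rw [hc.eq, mul_inv_cancel_right, h2]
      rfl

theorem Frame.ev_spec (F : Frame A X H0 E0 T el gv) : ∀ {w : List ℕ}, (∀ i ∈ w, i < T.N) →
    ∀ {x : ℕ}, x < T.N → T.ev w x < T.N ∧ valL el w * el x * (valL el w)⁻¹ = el (T.ev w x)
  | [], _, x, hx => by simp [Tabs.ev, valL, hx]
  | i :: w, hw, x, hx => by
    obtain ⟨h1, h2⟩ := F.ev_spec (fun a ha => hw a (List.mem_cons_of_mem _ ha)) hx
    obtain ⟨h3, h4⟩ := F.img_spec (hw i (List.mem_cons_self ..)) h1
    refine ⟨h3, ?_⟩
    show valL el (i :: w) * el x * (valL el (i :: w))⁻¹ = el (T.img i (T.ev w x))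
    rw [← h4, ← h2, valL, List.map_cons, List.prod_cons, ← valL]
    group

theorem Frame.val_mem (F : Frame A X H0 E0 T el gv) {w : List ℕ} (hw : ∀ i ∈ w, i < T.N) :
    valL el w ∈ X ∧ valL el w ∈ H0 := by
  refine ⟨Subgroup.list_prod_mem _ fun x hx => ?_, Subgroup.list_prod_mem _ fun x hx => ?_⟩ <;>
    obtain ⟨i, hi, rfl⟩ := List.mem_map.1 hx
  exacts [(F.el_mem i (hw i hi)).2.1, (F.el_mem i (hw i hi)).2.2]

theorem Frame.val_mem_closure (_ : Frame A X H0 E0 T el gv) {w : List ℕ} (hw : ∀ i ∈ w, i < T.N) :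
    valL el w ∈ Subgroup.closure (el '' Set.Iio T.N) := by
  refine Subgroup.list_prod_mem _ fun x hx => ?_
  obtain ⟨i, hi, rfl⟩ := List.mem_map.1 hx
  exact Subgroup.subset_closure ⟨i, hw i hi, rfl⟩

/-- Equal keys are equal elements modulo the kernel. -/
theorem Frame.key_iff (F : Frame A X H0 E0 T el gv) {v w : List ℕ} (hv : ∀ i ∈ v, i < T.N)
    (hw : ∀ i ∈ w, i < T.N) : T.key v = T.key w ↔ valL el v * (valL el w)⁻¹ ∈ E0 := by
  obtain ⟨vX, vH⟩ := F.val_mem hv
  obtain ⟨wX, wH⟩ := F.val_mem hw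
  constructor
  · intro e
    have h : (valL el w)⁻¹ * valL el v ∈ E0 := by
      refine F.faith _ (mul_mem (inv_mem wH) vH)
        (mul_mem (inv_mem (F.val_mem_closure hw)) (F.val_mem_closure hv)) fun b hb => ?_
      have e' : T.ev v b = T.ev w b := List.map_inj_left.1 e b hb
      have h1 := (F.ev_spec hv (F.base_lt b hb)).2
      rw [e', ← (F.ev_spec hw (F.base_lt b hb)).2, mul_inv_eq_iff_eq_mul] at h1
      show (valL el w)⁻¹ * valL el v * el b = el b * ((valL el w)⁻¹ * valL el v)
      rw [mul_assoc, h1]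
      group
    have hc := F.cen _ h _ wH
    rw [show valL el v * (valL el w)⁻¹ = valL el w * ((valL el w)⁻¹ * valL el v) * (valL el w)⁻¹ by group,
      ← hc.eq, mul_inv_cancel_right]
    exact h
  · intro h
    refine List.map_inj_left.2 fun b hb => ?_
    obtain ⟨l1, e1⟩ := F.ev_spec hv (F.base_lt b hb)
    obtain ⟨l2, e2⟩ := F.ev_spec hw (F.base_lt b hb)
    refine F.inj _ l1 _ l2 ?_
    have hc := F.cen _ h _ (mul_mem (mul_mem wH (F.el_mem b (F.base_lt b hb)).2.2) (inv_mem wH))
    rw [← e1, show valL el v * el b * (valL el v)⁻¹ = valL el v * (valL el w)⁻¹ *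
      (valL el w * el b * (valL el w)⁻¹) * (valL el v * (valL el w)⁻¹)⁻¹ by group, hc.eq,
      mul_inv_cancel_right, e2]

/-- The list of products describes a normal subgroup of a subgroup. -/
structure State (A : Set G) (X H0 E0 : Subgroup G) (T : Tabs) (el : ℕ → G) (H E : Subgroup G)
    (L : List (List ℕ)) (F : List ℕ) : Prop where
  HH : H ≤ H0
  EX : E ≤ X
  norm : ∀ h ∈ H, ∀ e ∈ E, h * e * h⁻¹ ∈ E
  E0E : E0 ≤ E
  mem_L : ∀ w ∈ L, ∀ i ∈ w, i < T.N
  mem_E : ∀ g, g ∈ E ↔ ∃ w ∈ L, g * (valL el w)⁻¹ ∈ E0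
  nodup : F.Nodup
  mem_F : ∀ i, i ∈ F ↔ i < T.N ∧ el i ∈ H

variable {H E : Subgroup G} {L : List (List ℕ)} {F : List ℕ}

theorem State.memL_iff (S : State A X H0 E0 T el H E L F) (Fr : Frame A X H0 E0 T el gv) {w : List ℕ}
    (hw : ∀ i ∈ w, i < T.N) : T.memL L w = true ↔ valL el w ∈ E := by
  simp only [Tabs.memL, Tabs.hasKey_iff, List.mem_map, S.mem_E]
  constructor
  · rintro ⟨v, hv, e⟩
    refine ⟨v, hv, ?_⟩
    have := inv_mem ((Fr.key_iff (S.mem_L v hv) hw).1 e)
    rwa [mul_inv_rev, inv_inv] at this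
  · rintro ⟨v, hv, e⟩
    exact ⟨v, hv, ((Fr.key_iff hw (S.mem_L v hv)).2 e).symm⟩

theorem length_filter_equiv {l : List ℕ} (hl : l.Nodup) {σ : ℕ → ℕ} (hm : ∀ x ∈ l, σ x ∈ l)
    (hi : ∀ x ∈ l, ∀ y ∈ l, σ x = σ y → x = y) {p q : ℕ → Bool} (hpq : ∀ x ∈ l, p x = q (σ x)) :
    (l.filter p).length = (l.filter q).length := by
  have hsub : (l.map σ).Subperm l := by
    refine List.subperm_of_subset (hl.map_on hi) fun x hx => ?_
    obtain ⟨y, hy, rfl⟩ := List.mem_map.1 hx
    exact hm y hy
  have hperm : (l.map σ).Perm l := hsub.perm_of_length_le (by simp)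
  rw [← (hperm.filter q).length_eq, List.filter_map, List.length_map]
  exact congrArg List.length (List.filter_congr fun x hx => hpq x hx)

/-- The keys of the class modulo the subgroup. -/
theorem State.keysAE_iff (S : State A X H0 E0 T el H E L F) (Fr : Frame A X H0 E0 T el gv) {w : List ℕ}
    (hw : ∀ z ∈ w, z < T.N) :
    Tabs.hasKey (T.keysAE L F) (T.key w) = true ↔ ∃ y ∈ F, el y * valL el w ∈ E := by
  have hN : ∀ x ∈ F, x < T.N := fun x hx => ((S.mem_F x).1 hx).1
  simp only [Tabs.keysAE, Tabs.hasKey_iff, List.mem_flatMap, List.mem_map]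
  constructor
  · rintro ⟨y, hy, v, hv, e4⟩
    refine ⟨y, hy, ?_⟩
    have lv : ∀ z ∈ y :: v, z < T.N := List.forall_mem_cons.2 ⟨hN y hy, S.mem_L v hv⟩
    have h4 := (Fr.key_iff lv hw).1 e4
    have h5 : valL el v * (valL el w)⁻¹ * el y ∈ E0 := by
      have hy0 := (Fr.el_mem y (hN y hy)).2.2
      have hcm := Fr.cen _ h4 _ hy0
      have : valL el v * (valL el w)⁻¹ * el y =
          (el y)⁻¹ * (valL el (y :: v) * (valL el w)⁻¹ * el y) := by
        simp only [valL, List.map_cons, List.prod_cons]; group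
      rw [this, hcm.eq, inv_mul_cancel_left]
      exact h4
    have hvE : valL el v ∈ E := (S.mem_E _).2 ⟨v, hv, by simp⟩
    have h6 := inv_mem (mul_mem (inv_mem hvE) (S.E0E h5))
    rwa [show ((valL el v)⁻¹ * (valL el v * (valL el w)⁻¹ * el y))⁻¹ = (el y)⁻¹ * valL el w by
      group, Fr.inv_el (hN y hy)] at h6
  · rintro ⟨y, hy, hE⟩
    obtain ⟨v, hv, h4⟩ := (S.mem_E _).1 hE
    refine ⟨y, hy, v, hv, ?_⟩
    refine ((Fr.key_iff hw (List.forall_mem_cons.2 ⟨hN y hy, S.mem_L v hv⟩)).2 ?_).symm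
    have hy0 := (Fr.el_mem y (hN y hy)).2.2
    have hcm := Fr.cen _ h4 _ hy0
    have : valL el w * (valL el (y :: v))⁻¹ =
        el y * valL el w * (valL el v)⁻¹ := by
      have e5 : valL el (y :: v) = el y * valL el v := by simp [valL]
      rw [e5, mul_inv_rev, Fr.inv_el (hN y hy), ← mul_assoc]
      have hA : el y * (el y * valL el w * (valL el v)⁻¹) * el y =
          valL el w * (valL el v)⁻¹ * el y := by
        rw [← mul_assoc, ← mul_assoc, Fr.ctrl.sq _ (Fr.el_mem y (hN y hy)).1, one_mul]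
      rw [← hA, mul_assoc (el y), hcm.eq, ← mul_assoc, Fr.ctrl.sq _ (Fr.el_mem y (hN y hy)).1, one_mul]
    rw [this]
    exact h4

/-- Colours are invariant. -/
theorem State.col_eq (S : State A X H0 E0 T el H E L F) (Fr : Frame A X H0 E0 T el gv) {sel a c : ℕ}
    (ha : a ∈ F) (hc : c ∈ F) {k : G} (hk : k ∈ H) (hkX : k ∈ X) (e : k * el a * k⁻¹ = el c) {K : KTree}
    (hK : 3 ≤ sel → T.aeOk K L F = true) :
    T.differ sel K L F a c = false := by
  classical
  have hN : ∀ x ∈ F, x < T.N := fun x hx => ((S.mem_F x).1 hx).1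
  have hex : ∀ x ∈ F, ∃ j ∈ F, k * el x * k⁻¹ = el j := by
    intro x hx
    obtain ⟨hx1, hx2⟩ := (S.mem_F x).1 hx
    obtain ⟨h1, h2, -⟩ := Fr.el_mem x hx1
    have hm : k * el x * k⁻¹ ∈ H := mul_mem (mul_mem hk hx2) (inv_mem hk)
    obtain ⟨j, hj, ej⟩ := Fr.complete _ (Fr.ctrl.conj _ h1 k) (mul_mem (mul_mem hkX h2) (inv_mem hkX))
      (S.HH hm)
    exact ⟨j, (S.mem_F j).2 ⟨hj, ej ▸ hm⟩, ej.symm⟩
  choose! σ hσ hσe using hex
  have hi : ∀ x ∈ F, ∀ y ∈ F, σ x = σ y → x = y := fun x hx y hy exy => by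
    have h1 := hσe x hx
    rw [exy, ← hσe y hy] at h1
    exact Fr.inj x (hN x hx) y (hN y hy) (mul_left_cancel (mul_right_cancel h1))
  have hσa : σ a = c := Fr.inj _ (hN _ (hσ a ha)) _ (hN c hc) ((hσe a ha).symm.trans e)
  have one : T.colOne F a = T.colOne F c := by
    refine length_filter_equiv S.nodup hσ hi fun x hx => ?_
    obtain ⟨l1, e1⟩ := Fr.img_spec (hN a ha) (hN x hx)
    obtain ⟨l2, e2⟩ := Fr.img_spec (hN c hc) (hN _ (hσ x hx))
    have e3 : el (T.img c (σ x)) = k * el (T.img a x) * k⁻¹ := by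
      rw [← e1, ← e2, ← hσe x hx, ← e]; group
    rw [Bool.eq_iff_iff, Nat.beq_eq, Nat.beq_eq]
    constructor
    · intro h
      rw [h, hσe x hx] at e3
      exact Fr.inj _ l2 _ (hN _ (hσ x hx)) e3
    · intro h
      rw [h, ← hσe x hx] at e3
      exact (Fr.inj x (hN x hx) _ l1 (mul_left_cancel (mul_right_cancel e3))).symm
  have two : T.colTwo L F a = T.colTwo L F c := by
    refine length_filter_equiv S.nodup hσ hi fun x hx => ?_
    have la : ∀ i ∈ [a, x, a, x], i < T.N := by simp [hN a ha, hN x hx]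
    have lc : ∀ i ∈ [c, σ x, c, σ x], i < T.N := by simp [hN c hc, hN _ (hσ x hx)]
    rw [Bool.eq_iff_iff, S.memL_iff Fr la, S.memL_iff Fr lc]
    have e3 : valL el [c, σ x, c, σ x] = k * valL el [a, x, a, x] * k⁻¹ := by
      simp only [valL, List.map_cons, List.map_nil, List.prod_cons, List.prod_nil, ← e, ← hσe x hx]
      group
    rw [e3]
    refine ⟨fun h => S.norm k hk _ h, fun h => ?_⟩
    have h' := S.norm k⁻¹ (inv_mem hk) _ h
    rwa [show k⁻¹ * (k * valL el [a, x, a, x] * k⁻¹) * k⁻¹⁻¹ = valL el [a, x, a, x] by group] at h'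
  have same : T.colSame L F a = T.colSame L F c := by
    refine length_filter_equiv S.nodup hσ hi fun x hx => ?_
    have la : ∀ i ∈ [a, x], i < T.N := by simp [hN a ha, hN x hx]
    have lc : ∀ i ∈ [c, σ x], i < T.N := by simp [hN c hc, hN _ (hσ x hx)]
    rw [Bool.eq_iff_iff, S.memL_iff Fr la, S.memL_iff Fr lc]
    have e3 : valL el [c, σ x] = k * valL el [a, x] * k⁻¹ := by
      simp only [valL, List.map_cons, List.map_nil, List.prod_cons, List.prod_nil, ← e, ← hσe x hx]
      group
    rw [e3]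
    refine ⟨fun h => S.norm k hk _ h, fun h => ?_⟩
    have h' := S.norm k⁻¹ (inv_mem hk) _ h
    rwa [show k⁻¹ * (k * valL el [a, x] * k⁻¹) * k⁻¹⁻¹ = valL el [a, x] by group] at h'
  have four : 3 ≤ sel → T.colFour K F a = T.colFour K F c := fun h3 => by
    have hmem : ∀ k, Tabs.memT K k = Tabs.hasKey (T.keysAE L F) k := by
      intro k
      have h := hK h3
      simp only [Tabs.aeOk, Bool.and_eq_true, List.all_eq_true] at h
      rw [Bool.eq_iff_iff]
      exact ⟨fun hk => h.2 k (Tabs.listT_of_memT hk), fun hk => h.1 k (Tabs.hasKey_iff.1 hk)⟩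
    simp only [Tabs.colFour, hmem]
    refine length_filter_equiv S.nodup hσ hi fun x hx => ?_
    have hsem : ∀ i ∈ F, ∀ j ∈ F, Tabs.hasKey (T.keysAE L F) (T.key [i, j]) = true ↔
        ∃ y ∈ F, el y * valL el [i, j] ∈ E := fun i hi' j hj' => S.keysAE_iff Fr (w := [i, j])
      (by simp [hN i hi', hN j hj'])
    rw [Bool.eq_iff_iff, hsem a ha x hx, hsem c hc (σ x) (hσ x hx)]
    have e3 : valL el [c, σ x] = k * valL el [a, x] * k⁻¹ := by
      simp only [valL, List.map_cons, List.map_nil, List.prod_cons, List.prod_nil, ← e, ← hσe x hx]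
      group
    constructor
    · rintro ⟨y, hy, h⟩
      refine ⟨σ y, hσ y hy, ?_⟩
      have h' := S.norm k hk _ h
      rwa [show k * (el y * valL el [a, x]) * k⁻¹ = k * el y * k⁻¹ * (k * valL el [a, x] * k⁻¹) by group,
        hσe y hy, ← e3] at h'
    · rintro ⟨y, hy, h⟩
      obtain ⟨y', hy', ey⟩ : ∃ y' ∈ F, σ y' = y := by
        have hp : (F.map σ).Perm F := (List.subperm_of_subset (S.nodup.map_on hi) fun z hz => by
          obtain ⟨w, hw, rfl⟩ := List.mem_map.1 hz
          exact hσ w hw).perm_of_length_le (by simp)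
        obtain ⟨y', hy', e'⟩ := List.mem_map.1 (hp.mem_iff.2 hy)
        exact ⟨y', hy', e'⟩
      refine ⟨y', hy', ?_⟩
      rw [← ey, e3, ← hσe y' hy', show k * el y' * k⁻¹ * (k * valL el [a, x] * k⁻¹) =
        k * (el y' * valL el [a, x]) * k⁻¹ by group] at h
      have h' := S.norm k⁻¹ (inv_mem hk) _ h
      rwa [show k⁻¹ * (k * (el y' * valL el [a, x]) * k⁻¹) * k⁻¹⁻¹ = el y' * valL el [a, x] by group] at h'
  simp only [Tabs.differ, Tabs.colour, Bool.not_eq_false']
  match sel, four with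
  | 0, _ => simp [one]
  | 1, _ => simp [two]
  | 2, _ => simp [same]
  | n + 3, f4 => simp [f4 (by omega)]

/-- The stabiliser of a coset. -/
def stabCoset (H E : Subgroup G) (hn : ∀ h ∈ H, ∀ e ∈ E, h * e * h⁻¹ ∈ E) (s : G) : Subgroup G where
  carrier := {g | g ∈ H ∧ g * s * g⁻¹ * s⁻¹ ∈ E}
  one_mem' := ⟨one_mem _, by simp⟩
  mul_mem' := by
    rintro g h ⟨gH, gs⟩ ⟨hH, hs⟩
    refine ⟨mul_mem gH hH, ?_⟩
    rw [show g * h * s * (g * h)⁻¹ * s⁻¹ = g * (h * s * h⁻¹ * s⁻¹) * g⁻¹ * (g * s * g⁻¹ * s⁻¹) by group]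
    exact mul_mem (hn g gH _ hs) gs
  inv_mem' := by
    rintro g ⟨gH, gs⟩
    refine ⟨inv_mem gH, ?_⟩
    have := hn g⁻¹ (inv_mem gH) _ (inv_mem gs)
    rwa [show g⁻¹ * (g * s * g⁻¹ * s⁻¹)⁻¹ * g⁻¹⁻¹ = g⁻¹ * s * g⁻¹⁻¹ * s⁻¹ by group] at this

/-- A subgroup and an element squaring into it and normalising it. -/
def growGrp (E : Subgroup G) (s : G) (hs : ∀ e ∈ E, s * e * s⁻¹ ∈ E) (hs2 : s * s ∈ E) : Subgroup G where
  carrier := {g | g ∈ E ∨ g * s⁻¹ ∈ E}
  one_mem' := Or.inl (one_mem _)
  mul_mem' := by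
    rintro g h (hg | hg) (hh | hh)
    · exact Or.inl (mul_mem hg hh)
    · exact Or.inr (by rw [mul_assoc]; exact mul_mem hg hh)
    · refine Or.inr ?_
      rw [show g * h * s⁻¹ = g * s⁻¹ * (s * h * s⁻¹) by group]
      exact mul_mem hg (hs h hh)
    · refine Or.inl ?_
      rw [show g * h = g * s⁻¹ * (s * (h * s⁻¹) * s⁻¹) * (s * s) by group]
      exact mul_mem (mul_mem hg (hs _ hh)) hs2
  inv_mem' := by
    rintro g (hg | hg)
    · exact Or.inl (inv_mem hg)
    · refine Or.inr ?_
      rw [show g⁻¹ * s⁻¹ = (s * s)⁻¹ * (s * (g * s⁻¹)⁻¹ * s⁻¹) by group]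
      exact mul_mem (inv_mem hs2) (hs _ (inv_mem hg))

theorem State.child (S : State A X H0 E0 T el H E L F) (Fr : Frame A X H0 E0 T el gv) {a c : ℕ}
    (ha : a ∈ F) (hc : c ∈ F) (hsq : T.memL L [a, c, a, c] = true) :
    ∃ (hn : ∀ e ∈ E, el a * el c * e * (el a * el c)⁻¹ ∈ E) (h2 : el a * el c * (el a * el c) ∈ E),
      State A X H0 E0 T el (stabCoset H E S.norm (el a * el c)) (growGrp E (el a * el c) hn h2)
        (Tabs.grow L [a, c]) (T.narrow L F [a, c]) := by
  obtain ⟨haN, haH⟩ := (S.mem_F a).1 ha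
  obtain ⟨hcN, hcH⟩ := (S.mem_F c).1 hc
  set s := el a * el c with hs
  have hsX : s ∈ X := mul_mem (Fr.el_mem a haN).2.1 (Fr.el_mem c hcN).2.1
  have hsH : s ∈ H := mul_mem haH hcH
  have h4 : valL el [a, c, a, c] = s * s := by simp [valL, hs, mul_assoc]
  have h2 : s * s ∈ E := h4 ▸ (S.memL_iff Fr (by simp [haN, hcN])).1 hsq
  have hn : ∀ e ∈ E, s * e * s⁻¹ ∈ E := fun e he => S.norm s hsH e he
  have hp : ∀ v, valL el (v ++ [a, c]) = valL el v * s := fun v => by simp [valL, hs]
  refine ⟨hn, h2, fun g hg => S.HH hg.1, ?_, ?_, fun e he => Or.inl (S.E0E he), ?_, fun g => ?_,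
    S.nodup.filter _, fun x => ?_⟩
  · rintro g (hg | hg)
    · exact S.EX hg
    · have := mul_mem (S.EX hg) hsX
      rwa [inv_mul_cancel_right] at this
  · rintro g ⟨gH, gs⟩ e (he | he)
    · exact Or.inl (S.norm g gH e he)
    · refine Or.inr ?_
      rw [show g * e * g⁻¹ * s⁻¹ = g * (e * s⁻¹) * g⁻¹ * (g * s * g⁻¹ * s⁻¹) by group]
      exact mul_mem (S.norm g gH _ he) gs
  · intro w hw
    simp only [Tabs.grow, List.mem_append, List.mem_map] at hw
    rcases hw with hw | ⟨v, hv, rfl⟩
    · exact S.mem_L w hw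
    · intro i hi
      simp only [List.mem_append, List.mem_cons, List.not_mem_nil, or_false] at hi
      rcases hi with hi | rfl | rfl
      exacts [S.mem_L v hv i hi, haN, hcN]
  · show g ∈ E ∨ g * s⁻¹ ∈ E ↔ _
    simp only [Tabs.grow, List.mem_append, List.mem_map, S.mem_E]
    constructor
    · rintro (⟨w, hw, h⟩ | ⟨w, hw, h⟩)
      · exact ⟨w, Or.inl hw, h⟩
      · refine ⟨w ++ [a, c], Or.inr ⟨w, hw, rfl⟩, ?_⟩
        rwa [hp, mul_inv_rev, ← mul_assoc]
    · rintro ⟨w, hw | ⟨v, hv, rfl⟩, h⟩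
      · exact Or.inl ⟨w, hw, h⟩
      · rw [hp, mul_inv_rev, ← mul_assoc] at h
        exact Or.inr ⟨v, hv, h⟩
  · simp only [Tabs.narrow, List.mem_filter, S.mem_F]
    show _ ↔ x < T.N ∧ el x ∈ H ∧ el x * s * (el x)⁻¹ * s⁻¹ ∈ E
    by_cases hx : x < T.N
    · rw [S.memL_iff Fr (by simp [hx, haN, hcN])]
      have : valL el (x :: ([a, c] ++ (x :: [a, c].reverse))) = el x * s * (el x)⁻¹ * s⁻¹ := by
        rw [hs, Fr.inv_el hx, mul_inv_rev, Fr.inv_el haN, Fr.inv_el hcN]
        simp [valL, mul_assoc]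
      rw [this]
      exact ⟨fun h => ⟨h.1.1, h.1.2, h.2⟩, fun h => ⟨⟨h.1, h.2.1⟩, h.2.2⟩⟩
    · exact ⟨fun h => absurd h.1.1 hx, fun h => absurd h.1 hx⟩

theorem cover_spec : ∀ {kids : List (ℕ × List (List ℕ) × List ℕ × Tree)} {L : List (List ℕ)} {a : ℕ} {k : List ℕ},
    k ∈ T.coverKeys kids L a → ∃ c us F' t, (c, us, F', t) ∈ kids ∧
      ∃ u ∈ us, ∃ v ∈ L, T.key (v ++ (u ++ [a, c] ++ u.reverse)) = k
  | [], _, _, _, h => by simp [Tabs.coverKeys] at h
  | (c, us, F', t) :: ks, _, _, _, h => by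
    simp only [Tabs.coverKeys, List.mem_append, List.mem_flatMap, List.mem_map] at h
    rcases h with h | h
    · exact ⟨c, us, F', t, List.mem_cons_self .., h⟩
    · obtain ⟨c', us', F'', t', hm, h'⟩ := cover_spec h
      exact ⟨c', us', F'', t', List.mem_cons_of_mem _ hm, h'⟩

theorem checkKids_spec : ∀ {kids : Tree} {L : List (List ℕ)} {F : List ℕ}
    {a : ℕ}, T.checkKids kids L F a = true → ∀ c us F' t, (c, us, F', t) ∈ kids.kidsL →
      c ∈ F ∧ T.memL L [a, c, a, c] = true ∧ (∀ u ∈ us, ∀ i ∈ u, i ∈ F) ∧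
        T.check t (Tabs.grow L [a, c]) (T.narrow L F [a, c]) = true
  | .node .., _, _, _, _ => by simp [Tree.kidsL]
  | .nil, _, _, _, _ => by simp [Tree.kidsL]
  | .cons c us F' t ks, L, F, a, h => by
    simp only [Tabs.checkKids, Bool.and_eq_true, List.contains_iff_mem, List.all_eq_true,
      Tabs.eqKey_iff] at h
    intro c' us' F'' t' hm
    simp only [Tree.kidsL] at hm
    rcases List.mem_cons.1 hm with e | hm
    · cases e
      exact ⟨h.1.1.1.1.1, h.1.1.1.1.2, h.1.1.1.2, h.1.1.2 ▸ h.1.2⟩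
    · exact checkKids_spec h.2 c' us' F'' t' hm

/-- A frame over tables with the same values. -/
theorem Frame.congr (F : Frame A X H0 E0 T el gv) {T' : Tabs} {m : ℕ} (hN : T'.N = T.N) (hb : T'.base = T.base)
    (hw : ∀ i < T.N, T'.word i = T.word i) (hm : ∀ i < T.N, ∀ g ∈ T.word i, g < m)
    (ha : ∀ g < m, ∀ x < T.N, T'.act g x = T.act g x) : Frame A X H0 E0 T' el gv where
  ctrl := F.ctrl
  E0X := F.E0X
  E0H := F.E0H
  cen := F.cen
  el_mem := fun i hi => F.el_mem i (hN ▸ hi)
  complete := fun a h1 h2 h3 => (F.complete a h1 h2 h3).imp fun i h => ⟨hN.symm ▸ h.1, h.2⟩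
  inj := fun i hi j hj => F.inj i (hN ▸ hi) j (hN ▸ hj)
  gv_mem := fun i hi g hg => by
    rw [hN] at hi ⊢
    rw [hw i hi] at hg
    refine ⟨(F.gv_mem i hi g hg).1, fun x hx => ?_⟩
    rw [ha g (hm i hi g hg) x hx]
    exact (F.gv_mem i hi g hg).2 x hx
  word_eq := fun i hi => by
    rw [hN] at hi
    rw [hw i hi]
    exact F.word_eq i hi
  base_lt := fun b h => hN.symm ▸ F.base_lt b (hb ▸ h)
  faith := fun g h1 h2 h3 => F.faith g h1 (hN ▸ h2) fun b h => h3 b (hb.symm ▸ h)

/-- A checked node. -/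
theorem Frame.le_of_check [Finite G] (Fr : Frame A X H0 E0 T el gv) : ∀ (t : Tree) {H E : Subgroup G}
    {L : List (List ℕ)} {F : List ℕ}, State A X H0 E0 T el H E L F → T.check t L F = true → H ≤ X
  | .nil, _, _, _, _, _, h => by simp [Tabs.check] at h
  | .cons .., _, _, _, _, _, h => by simp [Tabs.check] at h
  | .node a b sel K kids, H, E, L, F, S, h => by
    simp only [Tabs.check, Tabs.headOk, Tabs.candOk, Bool.and_eq_true, List.contains_iff_mem, List.all_eq_true, Bool.or_eq_true,
      Bool.not_eq_true', List.any_eq_true] at h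
    obtain ⟨⟨⟨⟨⟨ha, hb⟩, hK'⟩, hodd⟩, hcand⟩, hkids⟩ := h
    have hK : 3 ≤ sel → T.aeOk K L F = true := fun h3 =>
      hK'.resolve_left fun h4 => by rw [Nat.blt_eq] at h4; omega
    obtain ⟨haN, haH⟩ := (S.mem_F a).1 ha
    obtain ⟨hbN, hbH⟩ := (S.mem_F b).1 hb
    obtain ⟨haA, haX, -⟩ := Fr.el_mem a haN
    obtain ⟨hbA, hbX, -⟩ := Fr.el_mem b hbN
    have point : ∀ {g : G}, g ∈ H → g ∈ X → ∀ {i : ℕ}, i ∈ F → ∃ j ∈ F, g * el i * g⁻¹ = el j := by
      intro g gH gX i hi
      obtain ⟨hiN, hiH⟩ := (S.mem_F i).1 hi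
      obtain ⟨h1, h2, -⟩ := Fr.el_mem i hiN
      have hm : g * el i * g⁻¹ ∈ H := mul_mem (mul_mem gH hiH) (inv_mem gH)
      obtain ⟨j, hj, ej⟩ := Fr.complete _ (Fr.ctrl.conj _ h1 g) (mul_mem (mul_mem gX h2) (inv_mem gX))
        (S.HH hm)
      exact ⟨j, (S.mem_F j).2 ⟨hj, ej ▸ hm⟩, ej.symm⟩
    refine Fr.ctrl.step S.EX S.norm haA haH haX hbA hbH hbX (fun k kH kX hE => ?_)
      (fun s sH sX sE ssE hk g gH hg => ?_)
    · obtain ⟨c, hc, ec⟩ := point kH kX ha
      have hv : valL el [c, b] = k * el a * k⁻¹ * (el b)⁻¹ := by simp [valL, ec, Fr.inv_el hbN]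
      have h1 : T.memL L [c, b] = true :=
        (S.memL_iff Fr (by simp [((S.mem_F c).1 hc).1, hbN])).2 (hv ▸ hE)
      have h2 := S.col_eq Fr (sel := sel) ha hc kH kX ec hK
      rcases hodd c hc with h' | h'
      · rw [h1] at h'; exact Bool.noConfusion h'
      · rw [h2] at h'; exact Bool.noConfusion h'
    · obtain ⟨k, kH, kX, hk⟩ := hk
      obtain ⟨c, hc, ec, hcol⟩ : ∃ c ∈ F, el a * s = el c ∧
          (T.differ sel K L F a c = false ∨ T.differ sel K L F b c = false) := by
        rcases hk with e | e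
        · obtain ⟨c, hc, ec⟩ := point kH kX ha
          exact ⟨c, hc, e.symm.trans ec, Or.inl (S.col_eq Fr (sel := sel) ha hc kH kX ec hK)⟩
        · obtain ⟨c, hc, ec⟩ := point kH kX hb
          exact ⟨c, hc, e.symm.trans ec, Or.inr (S.col_eq Fr (sel := sel) hb hc kH kX ec hK)⟩
      obtain ⟨hcN, hcH⟩ := (S.mem_F c).1 hc
      have es : s = el a * el c := by rw [← ec, ← mul_assoc, Fr.ctrl.sq _ haA, one_mul]
      have hv : valL el [a, c] = s := by simp [valL, es]
      rcases hcand c hc with (((h' | h') | h') | h') | h'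
      · exact absurd (hv ▸ (S.memL_iff Fr (by simp [haN, hcN])).1 h') sE
      · have : T.memL L [a, c, a, c] = true :=
          (S.memL_iff Fr (by simp [haN, hcN])).2 (by
            have hv4 : valL el [a, c, a, c] = s * s := by simp [valL, es, mul_assoc]
            exact hv4 ▸ ssE)
        rw [this] at h'
        exact Bool.noConfusion h'
      · obtain ⟨c', us, F', t, hm, u, hu, hp⟩ := cover_spec (Tabs.hasKey_iff.1 h')
        obtain ⟨hc', hsq', husF, hchk⟩ := checkKids_spec hkids c' us F' t hm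
        obtain ⟨hn', h2', S'⟩ := S.child Fr ha hc' hsq'
        set s' := el a * el c'
        set r := valL el u with hr
        have huN : ∀ i ∈ u, i < T.N := fun i hi => ((S.mem_F i).1 (husF u hu i hi)).1
        have hrX : r ∈ X := (Fr.val_mem huN).1
        have hrH : r ∈ H := Subgroup.list_prod_mem _ fun z hz => by
          obtain ⟨i, hi, rfl⟩ := List.mem_map.1 hz
          exact ((S.mem_F i).1 (husF u hu i hi)).2
        have hrev : valL el u.reverse = r⁻¹ := by
          have key : ∀ l : List ℕ, (∀ i ∈ l, i < T.N) → valL el l.reverse = (valL el l)⁻¹ := by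
            intro l
            induction l with
            | nil => intro _; simp [valL]
            | cons i l ih =>
              intro hl
              have h1 := ih fun z hz => hl z (List.mem_cons_of_mem _ hz)
              have h2 : valL el (i :: l).reverse = valL el l.reverse * el i := by simp [valL]
              have h3 : valL el (i :: l) = el i * valL el l := by simp [valL]
              rw [h2, h1, h3, mul_inv_rev, Fr.inv_el (hl i (List.mem_cons_self ..))]
          exact key u huN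
        -- the middle element lies in the moved coset
        have hs' : s * (r * s' * r⁻¹)⁻¹ ∈ E := by
          obtain ⟨v, hvL, e⟩ := hp
          have lv : ∀ i ∈ v ++ (u ++ [a, c'] ++ u.reverse), i < T.N := by
            intro i hi
            simp only [List.mem_append, List.mem_cons, List.not_mem_nil, or_false, List.mem_reverse] at hi
            rcases hi with hi | (hi | rfl | rfl) | hi
            exacts [S.mem_L v hvL i hi, huN i hi, haN, ((S.mem_F _).1 hc').1, huN i hi]
          have h0 := (Fr.key_iff (w := v ++ (u ++ [a, c'] ++ u.reverse)) (v := [a, c]) (by simp [haN, hcN]) lv).1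
            e.symm
          have hvv : valL el (v ++ (u ++ [a, c'] ++ u.reverse)) = valL el v * (r * s' * r⁻¹) := by
            rw [← hrev]
            simp [valL, s', hr, mul_assoc]
          rw [hv, hvv, mul_inv_rev, ← mul_assoc] at h0
          exact (S.mem_E _).2 ⟨v, hvL, h0⟩
        -- conjugate into the stabiliser of the subtree
        have hg' : r⁻¹ * g * r ∈ X := by
          refine Fr.le_of_check t S' hchk ⟨mul_mem (mul_mem (inv_mem hrH) gH) hrH, ?_⟩
          set d := s * (r * s' * r⁻¹)⁻¹ with hd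
          have key : r⁻¹ * g * r * s' * (r⁻¹ * g * r)⁻¹ * s'⁻¹ =
              r⁻¹ * (g * d⁻¹ * g⁻¹ * (g * s * g⁻¹ * s⁻¹) * d) * r⁻¹⁻¹ := by
            rw [hd]; group
          rw [key]
          exact S.norm r⁻¹ (inv_mem hrH) _ (mul_mem (mul_mem (S.norm g gH _ (inv_mem hs')) hg) hs')
        have := mul_mem (mul_mem hrX hg') (inv_mem hrX)
        rwa [show r * (r⁻¹ * g * r) * r⁻¹ = g by group] at this
      · obtain ⟨d, hd, hd'⟩ := (S.keysAE_iff Fr (w := [a, c]) (by simp [haN, hcN])).1 h'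
        obtain ⟨hdN, -⟩ := (S.mem_F d).1 hd
        rw [hv] at hd'
        refine Fr.ctrl.coset_mem S.EX sX (inv_mem hd') ?_ (S.norm g gH) hg
        have e3 : (el d * s)⁻¹ * el d = s⁻¹ := by group
        have : (el d * s)⁻¹ * s = s⁻¹ * el d * s := by rw [mul_inv_rev, Fr.inv_el hdN]
        rw [this]
        simpa using Fr.ctrl.conj _ (Fr.el_mem d hdN).1 s⁻¹
      · rcases hcol with h3 | h3
        · rw [h3] at h'; exact Bool.noConfusion h'.1
        · rw [h3] at h'; exact Bool.noConfusion h'.2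
termination_by t => sizeOf t
decreasing_by
  have h0 := Tree.sizeOf_kid hm
  simp only [Tree.node.sizeOf_spec]
  omega

/-- The local subgroup of a checked tree lies in the subgroup. -/
theorem Frame.le_of_root [Finite G] (Fr : Frame A X H0 E0 T el gv) (t : Tree)
    (h : T.check t [[]] (List.range T.N) = true) : H0 ≤ X := by
  refine Fr.le_of_check t (E := E0) ⟨le_rfl, Fr.E0X, fun g hg e he => ?_, le_rfl, by simp, fun g => ?_,
    List.nodup_range, fun i => ?_⟩ h
  · rw [← (Fr.cen e he g hg).eq, mul_inv_cancel_right]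
    exact he
  · simp [valL]
  · rw [List.mem_range]
    exact ⟨fun hi => ⟨hi, (Fr.el_mem i hi).2.2⟩, And.left⟩

/-- Control from fusion. -/
theorem Ctrl.of_fusion {t : G} (ht : t * t = 1) (hC : Subgroup.centralizer {t} ≤ X)
    (hfus : ∀ g : G, g * t * g⁻¹ ∈ X → ∃ x ∈ X, x * t * x⁻¹ = g * t * g⁻¹) :
    Ctrl {a | ∃ g : G, g * t * g⁻¹ = a} X := by
  refine ⟨?_, ?_, ?_⟩
  · rintro _ ⟨g, rfl⟩
    rw [show g * t * g⁻¹ * (g * t * g⁻¹) = g * (t * t) * g⁻¹ by group, ht, mul_one, mul_inv_cancel]
  · rintro _ ⟨g, rfl⟩ h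
    exact ⟨h * g, by group⟩
  · rintro _ ⟨g, rfl⟩ hX h hh
    obtain ⟨x, hx, ex⟩ := hfus g hX
    obtain ⟨x', hx', ex'⟩ := hfus (h * g) (by convert hh using 1; group)
    have hm : x'⁻¹ * h * x ∈ X := hC (Subgroup.mem_centralizer_singleton_iff.2 (by
      calc x'⁻¹ * h * x * t = x'⁻¹ * h * (x * t * x⁻¹) * x := by group
        _ = x'⁻¹ * (h * g * t * (h * g)⁻¹) * h * x := by rw [ex]; group
        _ = x'⁻¹ * (x' * t * x'⁻¹) * h * x := by rw [ex']
        _ = t * (x'⁻¹ * h * x) := by group))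
    have := mul_mem (mul_mem hx' hm) (inv_mem hx)
    rwa [show x' * (x'⁻¹ * h * x) * x⁻¹ = h by group] at this

/-- Two classes with centralisers in the subgroup. -/
theorem eq_top_of_classes [Finite G] [IsSimpleGroup G] {a b : G} (haX : a ∈ X) (hbX : b ∈ X) (hb1 : b ≠ 1)
    (aa : a * a = 1) (bb : b * b = 1) (hne : ¬ IsConj a b)
    (ha : Subgroup.centralizer {a} ≤ X) (hb : Subgroup.centralizer {b} ≤ X)
    (hcls : ∀ r ∈ X, r * r = 1 → r ≠ 1 → ∃ x ∈ X, x * r * x⁻¹ = a ∨ x * r * x⁻¹ = b) : X = ⊤ := by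
  refine eq_top_of_two hbX hb1 aa bb hne
    (fun g hg => ha (Subgroup.mem_centralizer_singleton_iff.2 hg.eq)) fun r hr rr r1 g hg => ?_
  obtain ⟨x, hx, hx'⟩ := hcls r hr rr r1
  have key : ∀ u, x * r * x⁻¹ = u → Subgroup.centralizer {u} ≤ X → g ∈ X := by
    intro u hu hC
    have hc : Commute (x * g * x⁻¹) u := by rw [← hu]; exact (Commute.conj_iff x).2 hg
    have := mul_mem (mul_mem (inv_mem hx) (hC (Subgroup.mem_centralizer_singleton_iff.2 hc.eq))) hx
    rwa [show x⁻¹ * (x * g * x⁻¹) * x = g by group] at this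
  rcases hx' with h | h
  exacts [key a h ha, key b h hb]

end CfsgLib.HNRec
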