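import Cfsg.Prelude.Def_SporadicB
import Cfsg.Prelude.Def_Spor_Conway
import Cfsg.Prelude.Def_Spor_HN
import Cfsg.Agent.Lib.HNxyz.Letters
import Mathlib.GroupTheory.Index

/-!
# Recognition of the Harada–Norton group from an involution centraliser: interfaces

The pieces agreed in `notes/helper29_hn.md`.  Everything is stated for a group of the lowest universe.
-/

set_option autoImplicit false

namespace CfsgLib.HNRec

open CfsgLib.HNxyz

variable {G : Type} [Group G]

/-- The hypotheses of the three recognition statements. -/
structure Hyp (t : G) : Prop where
  order : orderOf t = 2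
  cover : ∃ M : Subgroup (Subgroup.centralizer ({t} : Set G)), M.Normal ∧ M.index = 2 ∧
    Subgroup.centralizer (M : Set (Subgroup.centralizer ({t} : Set G))) ≤ M ∧
    Cfsg.IsNonsplitDoubleCover M Cfsg.Spor.HS

/-- The relations of the isoclinic variant: the third generator squares to the central involution. -/
def TwistRels (a b c : G) : Prop :=
  c * c = a * a ∧ (c * a) * (c * a) = a * a ∧
    ∀ w ∈ xyzRels, w ≠ [4, 4] → w ≠ [4, 0, 4, 0] → evalW (elt a b c) w = 1

/-- Coordinates of the centraliser of an involution: it is generated by `a`, `b`, `c` as in the
presentation, and `a * a` is the involution. -/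
structure Coord (t a b c : G) : Prop where
  sq : a * a = t
  ne : t ≠ 1
  rels : XYZRels a b c
  cent : Subgroup.centralizer ({t} : Set G) = Subgroup.closure {a, b, c}

/-- Coordinates of the centraliser in the isoclinic variant. -/
structure Twist (t a b c : G) : Prop where
  sq : a * a = t
  ne : t ≠ 1
  rels : TwistRels a b c
  cent : Subgroup.centralizer ({t} : Set G) = Subgroup.closure {a, b, c}

/-- An element exchanging the involution and the third generator, an involution of the outer class. -/
def Exchange (t c : G) : Prop := ∃ n : G, n * t * n⁻¹ = c ∧ n * c * n⁻¹ = t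

end CfsgLib.HNRec
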