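import Cfsg.Agent.Lib.HNRec.Basic

/-!
# The results the final files are built from, as propositions
-/

set_option autoImplicit false

namespace CfsgLib.HNRec

open Cfsg.Spor (HN)

/-- The generator `x` of the presented group. -/
abbrev gX : Cfsg.Spor.HN := PresentedGroup.of HN.Gen.x
/-- The generator `y` of the presented group. -/
abbrev gY : Cfsg.Spor.HN := PresentedGroup.of HN.Gen.y
/-- The generator `z` of the presented group. -/
abbrev gZ : Cfsg.Spor.HN := PresentedGroup.of HN.Gen.z

/-- A: coordinates. -/
def CoordSpec : Prop :=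
  ∀ (G : Type) [Group G] [Finite G] (t : G), Hyp t → ∃ a b c : G, Coord t a b c ∨ Twist t a b c

/-- B1: the twisted variant is impossible; in the other one the exchange exists. -/
def ExchangeSpec : Prop :=
  ∀ (G : Type) [Group G] [Finite G] [IsSimpleGroup G] (t a b c : G),
    (Twist t a b c → False) ∧ (Coord t a b c → Exchange t c)

/-- B2: the presented group maps into the group. -/
def HomSpec : Prop :=
  ∀ (G : Type) [Group G] [Finite G] [IsSimpleGroup G] (t a b c : G), Coord t a b c → Exchange t c →
    ∃ f : Cfsg.Spor.HN →* G, f gX = a ∧ f gY = b ∧ f gZ = c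

/-- C: the endgame, in the image of the presented group. -/
def EndSpec : Prop :=
  ∀ (G : Type) [Group G] [Finite G] [IsSimpleGroup G] (f : Cfsg.Spor.HN →* G), Function.Injective f →
    Coord (f (gX * gX)) (f gX) (f gY) (f gZ) → f.range = ⊤

/-- C: the presented group has exactly two classes of involutions. -/
def ClassesSpec : Prop :=
  ∃ u v : Cfsg.Spor.HN, orderOf u = 2 ∧ orderOf v = 2 ∧ ¬ IsConj u v ∧
    ∀ w : Cfsg.Spor.HN, orderOf w = 2 → IsConj w u ∨ IsConj w v

end CfsgLib.HNRec
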