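import Cfsg.Agent.Lib.HNRec.Tree
import Cfsg.Agent.Lib.HNRec.Spec
import Cfsg.Agent.Lib.HNIndex.Order

/-!
# The endgame from facts about the presented group

A list of the conjugates of `x ^ 2` commuting with a second involution `s`, a checked tree, and the
two classes of involutions: a group containing the presented group with the full centraliser of
`x ^ 2` inside it is that group.
-/

set_option autoImplicit false

namespace CfsgLib.HNRec

open Cfsg.Spor (HN)

/-- The involution with centraliser `⟨x, y, z⟩`. -/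
abbrev gT : Cfsg.Spor.HN := gX * gX

/-- The facts about the list of conjugates of `x ^ 2` in the centraliser of `s`. -/
structure CzFacts (T : Tabs) (s : Cfsg.Spor.HN) (el gv : ℕ → Cfsg.Spor.HN) : Prop where
  el_mem : ∀ i < T.N, IsConj gT (el i) ∧ Commute (el i) s
  complete : ∀ a : Cfsg.Spor.HN, IsConj gT a → Commute a s → ∃ i < T.N, el i = a
  inj : ∀ i < T.N, ∀ j < T.N, el i = el j → i = j
  gv_mem : ∀ i < T.N, ∀ g ∈ T.word i, Commute (gv g) s ∧
    ∀ x < T.N, T.act g x < T.N ∧ gv g * el x * (gv g)⁻¹ = el (T.act g x)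
  word_eq : ∀ i < T.N, el i * ((T.word i).map gv).prod⁻¹ ∈ Subgroup.zpowers s
  base_lt : ∀ b ∈ T.base, b < T.N
  faith : ∀ g : Cfsg.Spor.HN, Commute g s → (∀ b ∈ T.base, Commute g (el b)) → g ∈ Subgroup.zpowers s

/-- The facts about the two classes of involutions. -/
structure TwoClasses (s : Cfsg.Spor.HN) : Prop where
  t_order : orderOf gT = 2
  s_order : orderOf s = 2
  ne : ¬ IsConj gT s
  cls : ∀ w : Cfsg.Spor.HN, orderOf w = 2 → IsConj w gT ∨ IsConj w s
  two_part : 2 ^ 12 ∣ Nat.card (Subgroup.centralizer ({s} : Set Cfsg.Spor.HN))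

theorem classesSpec_of {s : Cfsg.Spor.HN} (C : TwoClasses s) : ClassesSpec :=
  ⟨gT, s, C.t_order, C.s_order, C.ne, C.cls⟩

/-- The endgame; the facts about the list may use that `⟨x, y, z⟩` is the centraliser of `x ^ 2`. -/
theorem endSpec_of {T : Tabs} {t : Tree} {s : Cfsg.Spor.HN} {el gv : ℕ → Cfsg.Spor.HN}
    (F0 : Subgroup.centralizer ({gT} : Set Cfsg.Spor.HN) = HNIndex.hnSub → CzFacts T s el gv)
    (C : TwoClasses s) (hchk : T.check t [[]] (List.range T.N) = true) : EndSpec := by
  intro G _ _ _ f hf K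
  set X := f.range with hX
  set t0 := f gT with ht0
  set z := f s with hz
  have tt : t0 * t0 = 1 := by rw [← map_mul, ← pow_two, ← C.t_order, pow_orderOf_eq_one, map_one]
  have zz : z * z = 1 := by rw [← map_mul, ← pow_two, ← C.s_order, pow_orderOf_eq_one, map_one]
  have hC : Subgroup.centralizer {t0} ≤ X := by
    rw [K.cent, Subgroup.closure_le]
    rintro _ (rfl | rfl | rfl) <;> exact ⟨_, rfl⟩
  have hcent : Subgroup.centralizer ({gT} : Set Cfsg.Spor.HN) = HNIndex.hnSub := by
    have e : Subgroup.centralizer ({t0} : Set G) = HNIndex.hnSub.map f := by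
      rw [K.cent, HNIndex.hnSub, MonoidHom.map_closure, Set.image_insert_eq, Set.image_insert_eq,
        Set.image_singleton]
    refine Subgroup.map_injective hf ?_
    refine le_antisymm ?_ ?_
    · rintro _ ⟨u, hu, rfl⟩
      rw [← e]
      exact Subgroup.mem_centralizer_singleton_iff.2
        (by rw [ht0, ← map_mul, ← map_mul, Subgroup.mem_centralizer_singleton_iff.1 hu])
    · rintro _ ⟨u, hu, rfl⟩
      refine ⟨u, Subgroup.mem_centralizer_singleton_iff.2 (hf ?_), rfl⟩
      have hm : f u ∈ Subgroup.centralizer ({t0} : Set G) := e ▸ ⟨u, hu, rfl⟩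
      rw [map_mul f u gT, map_mul f gT u]
      exact Subgroup.mem_centralizer_singleton_iff.1 hm
  have F := F0 hcent
  have hcard : Nat.card (Subgroup.centralizer ({t0} : Set G)) = 177408000 := by
    have e : Subgroup.centralizer ({t0} : Set G) = HNIndex.hnSub.map f := by
      rw [K.cent, HNIndex.hnSub, MonoidHom.map_closure, Set.image_insert_eq, Set.image_insert_eq,
        Set.image_singleton]
    rw [e, Subgroup.card_map_of_injective hf, HNIndex.hnSub_card]
  have hnotz : ¬ IsConj t0 z := by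
    intro h
    obtain ⟨g, hg⟩ := isConj_iff.1 h
    have hmap : (Subgroup.centralizer ({s} : Set Cfsg.Spor.HN)).map f ≤
        (Subgroup.centralizer ({t0} : Set G)).map (MulAut.conj g).toMonoidHom := by
      rintro _ ⟨u, hu, rfl⟩
      refine ⟨g⁻¹ * f u * g, Subgroup.mem_centralizer_singleton_iff.2 ?_, by
        show g * (g⁻¹ * f u * g) * g⁻¹ = f u; group⟩
      have e : f u * z = z * f u := by
        rw [hz, ← map_mul, Subgroup.mem_centralizer_singleton_iff.1 hu, map_mul]
      have et : t0 = g⁻¹ * z * g := by rw [← hg]; group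
      rw [et]
      calc g⁻¹ * f u * g * (g⁻¹ * z * g) = g⁻¹ * (f u * z) * g := by group
        _ = g⁻¹ * z * g * (g⁻¹ * f u * g) := by rw [e]; group
    have h1 := Subgroup.card_dvd_of_le hmap
    rw [Subgroup.card_map_of_injective hf,
      Subgroup.card_map_of_injective (MulAut.conj g).injective, hcard] at h1
    exact absurd (C.two_part.trans h1) (by norm_num)
  have inv_cases : ∀ w : Cfsg.Spor.HN, orderOf (f w) = 2 → IsConj w gT ∨ IsConj w s := fun w hw =>
    C.cls w (by rwa [orderOf_injective f hf] at hw)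
  have ot : orderOf t0 = 2 := (orderOf_injective f hf gT).trans C.t_order
  have hfus : ∀ g : G, g * t0 * g⁻¹ ∈ X → ∃ x ∈ X, x * t0 * x⁻¹ = g * t0 * g⁻¹ := by
    rintro g ⟨w, hw⟩
    have ow : orderOf (f w) = 2 := by
      rw [hw, ← MulAut.conj_apply, MulEquiv.orderOf_eq, ot]
    rcases inv_cases w ow with h | h
    · obtain ⟨v, hv⟩ := isConj_iff.1 h.symm
      exact ⟨f v, ⟨v, rfl⟩, by rw [ht0, ← map_inv, ← map_mul, ← map_mul, hv, hw]⟩
    · exact absurd ((isConj_iff.2 ⟨g, hw.symm⟩ : IsConj t0 (f w)).trans (MonoidHom.map_isConj f h)) hnotz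
  have ctrl := Ctrl.of_fusion tt hC hfus
  have hzH : ∀ {u : Cfsg.Spor.HN}, Commute u s → f u ∈ Subgroup.centralizer ({z} : Set G) := fun hu =>
    Subgroup.mem_centralizer_singleton_iff.2 (hu.map f).eq
  have hback : ∀ {u : Cfsg.Spor.HN}, f u ∈ Subgroup.centralizer ({z} : Set G) → Commute u s := fun hu =>
    hf (by rw [map_mul, map_mul]; exact Subgroup.mem_centralizer_singleton_iff.1 hu)
  have hzpow : ∀ {u : Cfsg.Spor.HN}, u ∈ Subgroup.zpowers s → f u ∈ Subgroup.zpowers z := by
    rintro _ ⟨i, rfl⟩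
    exact ⟨i, by simp [hz]⟩
  have Fr : Frame {a | ∃ g : G, g * t0 * g⁻¹ = a} X (Subgroup.centralizer {z}) (Subgroup.zpowers z) T
      (f ∘ el) (f ∘ gv) :=
    { ctrl := ctrl
      E0X := Subgroup.zpowers_le.2 ⟨s, rfl⟩
      E0H := Subgroup.zpowers_le.2 (Subgroup.mem_centralizer_singleton_iff.2 rfl)
      cen := by
        rintro _ ⟨i, rfl⟩ g hg
        exact (show Commute z g from (Subgroup.mem_centralizer_singleton_iff.1 hg).symm).zpow_left i
      el_mem := fun i hi => by
        obtain ⟨h1, h2⟩ := F.el_mem i hi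
        obtain ⟨g, hg⟩ := isConj_iff.1 h1
        exact ⟨⟨f g, by rw [ht0, ← map_inv, ← map_mul, ← map_mul, hg]; rfl⟩, ⟨el i, rfl⟩, hzH h2⟩
      complete := by
        rintro _ ⟨g, rfl⟩ ⟨w, hw⟩ haH
        have ow : orderOf (f w) = 2 := by
          rw [hw, ← MulAut.conj_apply, MulEquiv.orderOf_eq, ot]
        rcases inv_cases w ow with h | h
        · rw [← hw] at haH
          obtain ⟨i, hi, e⟩ := F.complete w h.symm (hback haH)
          exact ⟨i, hi, (congrArg f e).trans hw⟩
        · exact absurd ((isConj_iff.2 ⟨g, hw.symm⟩ : IsConj t0 (f w)).trans (MonoidHom.map_isConj f h)) hnotz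
      inj := fun i hi j hj e => F.inj i hi j hj (hf e)
      gv_mem := fun i hi g hg => by
        obtain ⟨h1, h2⟩ := F.gv_mem i hi g hg
        refine ⟨hzH h1, fun x hx => ⟨(h2 x hx).1, ?_⟩⟩
        show f (gv g) * f (el x) * (f (gv g))⁻¹ = f (el (T.act g x))
        rw [← map_inv, ← map_mul, ← map_mul, (h2 x hx).2]
      word_eq := fun i hi => by
        rw [List.comp_map, ← map_list_prod, Function.comp_apply, ← map_inv, ← map_mul]
        exact hzpow (F.word_eq i hi)
      base_lt := F.base_lt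
      faith := by
        intro g hH hg hb
        have hle : Subgroup.closure ((f ∘ el) '' Set.Iio T.N) ≤ X :=
          (Subgroup.closure_le _).2 (Set.image_subset_iff.2 fun i _ => ⟨el i, rfl⟩)
        obtain ⟨w, rfl⟩ := hle hg
        refine hzpow (F.faith w (hback hH) fun b hb' => hf ?_)
        rw [map_mul, map_mul]
        exact (hb b hb').eq }
  have hz_le : Subgroup.centralizer {z} ≤ X := Fr.le_of_root t hchk
  have ne1 : z ≠ 1 := fun h => by
    have := (orderOf_injective f hf s).trans C.s_order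
    rw [← hz, h, orderOf_one] at this
    omega
  refine eq_top_of_classes (a := t0) (b := z) ⟨gT, rfl⟩ ⟨s, rfl⟩ ne1 tt zz hnotz hC hz_le ?_
  rintro _ ⟨w, rfl⟩ ww w1
  have ow : orderOf (f w) = 2 := orderOf_eq_prime (by rw [pow_two]; exact ww) w1
  rcases inv_cases w ow with h | h <;> obtain ⟨v, hv⟩ := isConj_iff.1 h
  · exact ⟨f v, ⟨v, rfl⟩, Or.inl (by rw [ht0, ← map_inv, ← map_mul, ← map_mul, hv])⟩
  · exact ⟨f v, ⟨v, rfl⟩, Or.inr (by rw [hz, ← map_inv, ← map_mul, ← map_mul, hv])⟩

end CfsgLib.HNRec
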