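import Cfsg.Agent.Lib.HNRec.ModelData

/-!
# The tree passes the check

Each node is checked by itself on the literal list of its points.
-/

set_option autoImplicit false
set_option maxRecDepth 100000
set_option maxHeartbeats 0
set_option linter.style.longLine false

namespace CfsgLib.HNRec.Model

open Tabs

theorem node0_head : tabs.headOk 0 4 0 .tip (tabs.coverKeys [] [[], [0, 11], [0, 17], [0, 11, 0, 17]] 0) [[], [0, 11], [0, 17], [0, 11, 0, 17]] pts0 = true := by
  decide +kernel

theorem node0_checked : tabs.check node0 [[], [0, 11], [0, 17], [0, 11, 0, 17]] pts0 = true :=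
  check_node tabs node0_head (checkKids_nil tabs)

theorem node1_head : tabs.headOk 0 3 2 .tip (tabs.coverKeys [] [[], [0, 11], [0, 51], [0, 11, 0, 51]] 0) [[], [0, 11], [0, 51], [0, 11, 0, 51]] pts1 = true := by
  decide +kernel

theorem node1_checked : tabs.check node1 [[], [0, 11], [0, 51], [0, 11, 0, 51]] pts1 = true :=
  check_node tabs node1_head (checkKids_nil tabs)

theorem node2_head : tabs.headOk 0 1 2 .tip (tabs.coverKeys [] [[], [0, 11], [0, 86], [0, 11, 0, 86]] 0) [[], [0, 11], [0, 86], [0, 11, 0, 86]] pts2 = true := by
  decide +kernel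

theorem node2_checked : tabs.check node2 [[], [0, 11], [0, 86], [0, 11, 0, 86]] pts2 = true :=
  check_node tabs node2_head (checkKids_nil tabs)

theorem node3_head : tabs.headOk 0 4 0 .tip (tabs.coverKeys [(17, [[]], pts0, node0), (51, [[], [290], [129], [142]], pts1, node1), (86, [[], [145], [290], [129]], pts2, node2)] [[], [0, 11]] 0) [[], [0, 11]] pts3 = true := by
  decide +kernel

theorem node3_kid0 : (pts3.contains 17 && tabs.memL [[], [0, 11]] [0, 17, 0, 17] && (([[]] : List (List ℕ)).all fun u => u.all fun i => pts3.contains i)) = true := by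
  decide +kernel

theorem node3_pts0 : eqKey (tabs.narrow [[], [0, 11]] pts3 [0, 17]) pts0 = true := by
  decide +kernel

theorem node3_kid1 : (pts3.contains 51 && tabs.memL [[], [0, 11]] [0, 51, 0, 51] && (([[], [290], [129], [142]] : List (List ℕ)).all fun u => u.all fun i => pts3.contains i)) = true := by
  decide +kernel

theorem node3_pts1 : eqKey (tabs.narrow [[], [0, 11]] pts3 [0, 51]) pts1 = true := by
  decide +kernel

theorem node3_kid2 : (pts3.contains 86 && tabs.memL [[], [0, 11]] [0, 86, 0, 86] && (([[], [145], [290], [129]] : List (List ℕ)).all fun u => u.all fun i => pts3.contains i)) = true := by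
  decide +kernel

theorem node3_pts2 : eqKey (tabs.narrow [[], [0, 11]] pts3 [0, 86]) pts2 = true := by
  decide +kernel

theorem node3_checked : tabs.check node3 [[], [0, 11]] pts3 = true :=
  check_node tabs node3_head (checkKids_cons tabs node3_kid0 node3_pts0 node0_checked ((checkKids_cons tabs node3_kid1 node3_pts1 node1_checked ((checkKids_cons tabs node3_kid2 node3_pts2 node2_checked (checkKids_nil tabs))))))

theorem node4_head : tabs.headOk 86 2 3 keys0 (tabs.coverKeys [] [[], [0, 15]] 86) [[], [0, 15]] pts4 = true := by
  decide +kernel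

theorem node4_checked : tabs.check node4 [[], [0, 15]] pts4 = true :=
  check_node tabs node4_head (checkKids_nil tabs)

theorem node5_head : tabs.headOk 0 120 0 .tip (tabs.coverKeys [(11, [[], [1057, 605, 738, 605], [605], [498, 1057, 498], [1057], [498, 1057], [1057, 605, 738, 498, 1057, 498], [1057, 605], [738, 498, 1057, 605, 738, 498], [738, 498, 1057, 605, 738, 605, 498], [1057, 605, 738], [738, 498, 1057, 605, 738, 1057, 498], [605, 738, 605, 738, 1057, 498], [605, 738, 605, 738, 498], [738, 605, 738, 605, 738, 498]], pts3, node3), (15, [[], [605, 738, 605, 498, 1057], [605, 738, 1057, 498], [605, 738, 1057], [605, 738, 498, 1057, 605, 1057, 498], [738, 498, 1057], [605, 738, 605, 498, 1057, 498], [738, 605, 738, 498], [1057, 605, 738, 605, 498, 1057], [738, 605, 738, 1057, 605, 738, 1057, 498], [738, 1057, 605, 738, 605, 738, 498], [738, 1057, 605, 738, 1057, 605, 738, 1057, 498], [1057, 605, 498, 1057, 498], [738, 605, 738, 605, 738, 498], [498, 1057, 605, 1057, 498], [1057, 498], [1057, 605, 738, 605, 498], [738, 605, 738, 605, 738, 498, 1057, 498], [1057, 605,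 738, 498, 1057], [738, 605, 738, 605, 1057], [1057, 605, 738, 498], [605, 738, 1057, 605, 738, 605, 498, 1057], [605, 738, 1057, 605, 738, 605, 738, 1057, 498], [1057, 605]], pts4, node4)] [[]] 0) [[]] (List.range tabs.N) = true := by
  decide +kernel

theorem node5_kid0 : ((List.range tabs.N).contains 11 && tabs.memL [[]] [0, 11, 0, 11] && (([[], [1057, 605, 738, 605], [605], [498, 1057, 498], [1057], [498, 1057], [1057, 605, 738, 498, 1057, 498], [1057, 605], [738, 498, 1057, 605, 738, 498], [738, 498, 1057, 605, 738, 605, 498], [1057, 605, 738], [738, 498, 1057, 605, 738, 1057, 498], [605, 738, 605, 738, 1057, 498], [605, 738, 605, 738, 498], [738, 605, 738, 605, 738, 498]] : List (List ℕ)).all fun u => u.all fun i => (List.range tabs.N).contains i)) = true := by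
  decide +kernel

theorem node5_pts0 : eqKey (tabs.narrow [[]] (List.range tabs.N) [0, 11]) pts3 = true := by
  decide +kernel

theorem node5_kid1 : ((List.range tabs.N).contains 15 && tabs.memL [[]] [0, 15, 0, 15] && (([[], [605, 738, 605, 498, 1057], [605, 738, 1057, 498], [605, 738, 1057], [605, 738, 498, 1057, 605, 1057, 498], [738, 498, 1057], [605, 738, 605, 498, 1057, 498], [738, 605, 738, 498], [1057, 605, 738, 605, 498, 1057], [738, 605, 738, 1057, 605, 738, 1057, 498], [738, 1057, 605, 738, 605, 738, 498], [738, 1057, 605, 738, 1057, 605, 738, 1057, 498], [1057, 605, 498, 1057, 498], [738, 605, 738, 605, 738, 498], [498, 1057, 605, 1057, 498], [1057, 498], [1057, 605, 738, 605, 498], [738, 605, 738, 605, 738, 498, 1057, 498], [1057, 605, 738, 498, 1057], [738, 605, 738, 605, 1057], [1057, 605, 738, 498], [605, 738, 1057, 605, 738, 605, 498, 1057], [605, 738, 1057, 605, 738, 605, 738, 1057, 498], [1057, 605]] : List (List ℕ)).all fun u => u.all fun i => (List.range tabs.N).contains i)) = true := by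
  decide +kernel

theorem node5_pts1 : eqKey (tabs.narrow [[]] (List.range tabs.N) [0, 15]) pts4 = true := by
  decide +kernel

theorem node5_checked : tabs.check node5 [[]] (List.range tabs.N) = true :=
  check_node tabs node5_head (checkKids_cons tabs node5_kid0 node5_pts0 node3_checked ((checkKids_cons tabs node5_kid1 node5_pts1 node4_checked (checkKids_nil tabs))))

theorem tree_checked : tabs.check tree [[]] (List.range tabs.N) = true :=
  node5_checked

end CfsgLib.HNRec.Model
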