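import Cfsg.Agent.Lib.HNRec.EndOf
import Cfsg.Agent.Lib.HNRec.ModelCheck
import Cfsg.Agent.Lib.HNRec.Cz.Model

/-!
# The endgame over the numbered model

The packed tables agree with those of `Cz`, so the checked tree applies to the facts proved there.
-/

set_option autoImplicit false
set_option maxRecDepth 100000
set_option maxHeartbeats 0

namespace CfsgLib.HNRec

/-- The packed images agree. -/
theorem act_agree : ((List.range 5).all fun g => (List.range 1080).all fun x =>
    Nat.beq (Model.tabs.act g x) (Cz.tabs.act g x)) = true := by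
  decide +kernel

/-- The packed words agree, and use five letters. -/
theorem word_agree : ((List.range 1080).all fun i => Tabs.eqKey (Model.tabs.word i) (Cz.tabs.word i) &&
    (Cz.tabs.word i).all fun g => Nat.blt g 5) = true := by
  decide +kernel

theorem CzFacts.packed {s : Cfsg.Spor.HN} {el gv : ℕ → Cfsg.Spor.HN} (F : CzFacts Cz.tabs s el gv) :
    CzFacts Model.tabs s el gv := by
  have hw : ∀ i < 1080, Model.tabs.word i = Cz.tabs.word i ∧ ∀ g ∈ Cz.tabs.word i, g < 5 := by
    intro i hi
    have h := List.all_eq_true.1 word_agree i (List.mem_range.2 hi)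
    simp only [Bool.and_eq_true, Tabs.eqKey_iff, List.all_eq_true, Nat.blt_eq] at h
    exact h
  have ha : ∀ g < 5, ∀ x < 1080, Model.tabs.act g x = Cz.tabs.act g x := by
    intro g hg x hx
    have h := List.all_eq_true.1 (List.all_eq_true.1 act_agree g (List.mem_range.2 hg)) x (List.mem_range.2 hx)
    exact Nat.eq_of_beq_eq_true h
  refine ⟨F.el_mem, F.complete, F.inj, fun i hi g hg => ?_, fun i hi => ?_, F.base_lt, F.faith⟩
  · rw [(hw i hi).1] at hg
    refine ⟨(F.gv_mem i hi g hg).1, fun x hx => ?_⟩
    rw [ha g ((hw i hi).2 g hg) x hx]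
    exact (F.gv_mem i hi g hg).2 x hx
  · rw [(hw i hi).1]
    exact F.word_eq i hi

/-- The endgame from the facts about the numbered model and the two classes. -/
theorem endSpec_of_facts {s : Cfsg.Spor.HN} {el gv : ℕ → Cfsg.Spor.HN}
    (F : Subgroup.centralizer ({gT} : Set Cfsg.Spor.HN) = HNIndex.hnSub → CzFacts Cz.tabs s el gv)
    (C : TwoClasses s) : EndSpec :=
  endSpec_of (fun h => (F h).packed) C Model.tree_checked

end CfsgLib.HNRec
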