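import Cfsg.Agent.Lib.HNRec.Glue
import Cfsg.Agent.Lib.HNRec.Coords.Main
import Cfsg.Agent.Lib.HNRec.Hom.FromNormal
import Cfsg.Agent.Lib.HNRec.Normal.Main
import Cfsg.Agent.Lib.HNRec.Fusion.Main
import Cfsg.Agent.Lib.HNRec.Cz.CzFacts

/-!
# The recognition of the Harada–Norton group
-/

set_option autoImplicit false

universe u

namespace CfsgLib.HNRec

/-- A simple group with such an involution centraliser is the presented group. -/
theorem isoHN_final {G : Type u} [Group G] [Finite G] [IsSimpleGroup G] (t : G) (ht : orderOf t = 2)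
    (M : Subgroup (Subgroup.centralizer ({t} : Set G))) [M.Normal] (hM : M.index = 2)
    (hout : Subgroup.centralizer (M : Set (Subgroup.centralizer ({t} : Set G))) ≤ M)
    (hcov : Cfsg.IsNonsplitDoubleCover M Cfsg.Spor.HS) : Cfsg.Spor.IsoHN G :=
  isoHN_of_specs coordSpec Fusion.exchangeSpec (homSpec_of_normal Normal.normalSpec) Cz.endSpec t ht M hM hout hcov

end CfsgLib.HNRec
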