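import Cfsg.Agent.Lib.HNRec.Spec
import Cfsg.Agent.Lib.HNIndex.Simple
import Mathlib.Data.Countable.Small
import Mathlib.Algebra.Group.Shrink

/-!
# From the four pieces to the recognition theorem, in any universe
-/

set_option autoImplicit false
set_option linter.style.haveILetI false

universe u v

namespace CfsgLib.HNRec

theorem isSimpleGroup_congr {G : Type u} {H : Type v} [Group G] [Group H] (e : G ≃* H) [IsSimpleGroup G] :
    IsSimpleGroup H := by
  haveI : Nontrivial H := e.toEquiv.symm.nontrivial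
  refine ⟨fun N hN => ?_⟩
  rcases IsSimpleGroup.eq_bot_or_eq_top_of_normal (N.comap e.toMonoidHom) (hN.comap _) with h | h
  · refine Or.inl (Subgroup.comap_injective (f := e.toMonoidHom) e.surjective ?_)
    rw [h, MonoidHom.comap_bot]; exact ((MonoidHom.ker_eq_bot_iff _).2 e.injective).symm
  · exact Or.inr (Subgroup.comap_injective (f := e.toMonoidHom) e.surjective (by rw [h, Subgroup.comap_top]))

/-- Isomorphic groups are double covers of the same group. -/
theorem cover_congr {M : Type u} {N : Type v} [Group M] [Group N] (e : M ≃* N)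
    (h : Cfsg.IsNonsplitDoubleCover M Cfsg.Spor.HS) : Cfsg.IsNonsplitDoubleCover N Cfsg.Spor.HS := by
  obtain ⟨h2, ⟨i⟩, hns⟩ := h
  have hc : (Subgroup.center M).map e.toMonoidHom = Subgroup.center N := by
    ext y
    obtain ⟨x, rfl⟩ := e.surjective y
    rw [Subgroup.mem_map_equiv, e.symm_apply_apply, Subgroup.mem_center_iff, Subgroup.mem_center_iff]
    refine ⟨fun hx g => ?_, fun hx g => e.injective (by simpa using hx (e g))⟩
    obtain ⟨z, rfl⟩ := e.surjective g
    rw [← map_mul, hx z, map_mul]
  refine ⟨?_, ⟨(QuotientGroup.congr _ _ e hc).symm.trans i⟩, fun L hL => hns (L.comap e.toMonoidHom) ?_⟩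
  · rw [← hc, Subgroup.card_map_of_injective e.injective, h2]
  · refine Subgroup.isComplement'_of_disjoint_and_mul_eq_univ ?_ ?_
    · rw [Subgroup.disjoint_def]
      intro x hx hL'
      refine e.injective ?_
      rw [map_one]
      exact Subgroup.disjoint_def.1 hL.disjoint (hc ▸ Subgroup.mem_map_of_mem _ hx) hL'
    · refine Set.eq_univ_of_forall fun x => ?_
      obtain ⟨⟨⟨p, hp⟩, ⟨q, hq⟩⟩, hpq⟩ := hL.2 (e x)
      rw [← hc] at hp
      obtain ⟨p', hp', rfl⟩ := hp
      refine ⟨p', hp', e.symm q, by simpa using hq, e.injective ?_⟩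
      simpa using hpq

/-- The recognition in the lowest universe. -/
theorem iso_of_specs (hA : CoordSpec) (hB : ExchangeSpec) (hH : HomSpec) (hE : EndSpec)
    {G : Type} [Group G] [Finite G] [IsSimpleGroup G] {t : G} (h : Hyp t) :
    Nonempty (Cfsg.Spor.HN ≃* G) := by
  obtain ⟨a, b, c, hK | hT⟩ := hA G t h
  · obtain ⟨f, fa, fb, fc⟩ := hH G t a b c hK ((hB G t a b c).2 hK)
    haveI := CfsgLib.HNIndex.hn_isHN.1
    have hinj : Function.Injective f := by
      rw [← MonoidHom.ker_eq_bot_iff]
      refine (IsSimpleGroup.eq_bot_or_eq_top_of_normal _ (MonoidHom.normal_ker _)).resolve_right fun e => ?_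
      have ha : a = 1 := fa ▸ MonoidHom.mem_ker.1 (e ▸ Subgroup.mem_top gX)
      exact hK.ne (by rw [← hK.sq, ha, one_mul])
    have hr : f.range = ⊤ := hE G f hinj (by rw [map_mul, fa, fb, fc, hK.sq]; exact hK)
    exact ⟨MulEquiv.ofBijective f ⟨hinj, MonoidHom.range_eq_top.1 hr⟩⟩
  · exact ((hB G t a b c).1 hT).elim

/-- The recognition in any universe. -/
theorem isoHN_of_specs (hA : CoordSpec) (hB : ExchangeSpec) (hH : HomSpec) (hE : EndSpec)
    {G : Type u} [Group G] [Finite G] [IsSimpleGroup G] (t : G) (ht : orderOf t = 2)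
    (M : Subgroup (Subgroup.centralizer ({t} : Set G))) [M.Normal] (hM : M.index = 2)
    (hout : Subgroup.centralizer (M : Set (Subgroup.centralizer ({t} : Set G))) ≤ M)
    (hcov : Cfsg.IsNonsplitDoubleCover M Cfsg.Spor.HS) : Cfsg.Spor.IsoHN G := by
  haveI : Small.{0} G := Countable.toSmall G
  let e : G ≃* Shrink.{0} G := (Shrink.mulEquiv : Shrink.{0} G ≃* G).symm
  haveI : Finite (Shrink.{0} G) := Finite.of_equiv G e.toEquiv
  haveI := isSimpleGroup_congr e
  have hC : (Subgroup.centralizer ({t} : Set G)).map e.toMonoidHom =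
      Subgroup.centralizer ({e t} : Set (Shrink.{0} G)) := by
    ext y
    obtain ⟨x, rfl⟩ := e.surjective y
    rw [Subgroup.mem_map_equiv, e.symm_apply_apply, Subgroup.mem_centralizer_singleton_iff,
      Subgroup.mem_centralizer_singleton_iff, ← map_mul, ← map_mul, e.injective.eq_iff]
  let i : Subgroup.centralizer ({t} : Set G) ≃* Subgroup.centralizer ({e t} : Set (Shrink.{0} G)) :=
    (e.subgroupMap _).trans (MulEquiv.subgroupCongr hC)
  have hyp : Hyp (e t) := by
    refine ⟨(orderOf_injective e.toMonoidHom e.injective t).trans ht, M.map i.toMonoidHom,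
      ‹M.Normal›.map _ i.surjective, ?_, ?_, cover_congr (i.subgroupMap M) hcov⟩
    · exact (Subgroup.index_map_equiv M i).trans hM
    · intro y hy
      obtain ⟨x, rfl⟩ := i.surjective y
      refine Subgroup.mem_map_of_mem _ (hout fun m hm => i.injective ?_)
      rw [map_mul, map_mul]
      exact hy (i m) (Subgroup.mem_map_of_mem _ hm)
  obtain ⟨k⟩ := iso_of_specs hA hB hH hE hyp
  exact ⟨e.trans k.symm⟩

end CfsgLib.HNRec
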