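import Mathlib.GroupTheory.Subgroup.Simple
import Mathlib.GroupTheory.OrderOfElement
import Mathlib.Tactic.Group

/-!
# A subgroup controlling a class of involutions swallows local subgroups

An involution of the class in the subgroup and an outside conjugate of another one generate a
dihedral group whose middle element lies in the subgroup: recursion into its stabiliser modulo a
normal subgroup.
-/

set_option autoImplicit false

namespace CfsgLib.HNRec

variable {G : Type*} [Group G]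

/-- A conjugation invariant set of involutions whose fusion is controlled by the subgroup. -/
structure Ctrl (A : Set G) (X : Subgroup G) : Prop where
  sq : ∀ a ∈ A, a * a = 1
  conj : ∀ a ∈ A, ∀ g : G, g * a * g⁻¹ ∈ A
  mem : ∀ a ∈ A, a ∈ X → ∀ g : G, g * a * g⁻¹ ∈ X → g ∈ X

variable {A : Set G} {X : Subgroup G}

theorem Ctrl.cent (K : Ctrl A X) {a : G} (ha : a ∈ A) (haX : a ∈ X) {g : G} (hg : Commute g a) : g ∈ X :=
  K.mem a ha haX g (by rw [hg.eq, mul_inv_cancel_right]; exact haX)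

/-- A normalised subgroup of `X` containing an element of the class. -/
theorem Ctrl.norm_mem (K : Ctrl A X) {a : G} (ha : a ∈ A) {E : Subgroup G} (hE : E ≤ X) (haE : a ∈ E) {g : G}
    (hg : g * a * g⁻¹ ∈ E) : g ∈ X :=
  K.mem a ha (hE haE) g (hE hg)

/-- The stabiliser of a coset containing an element of the class. -/
theorem Ctrl.coset_mem (K : Ctrl A X) {E : Subgroup G} (hE : E ≤ X) {s : G} (hs : s ∈ X) {e : G} (he : e ∈ E)
    (hA : e * s ∈ A) {g : G} (hn : ∀ x ∈ E, g * x * g⁻¹ ∈ E) (hg : g * s * g⁻¹ * s⁻¹ ∈ E) : g ∈ X := by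
  refine K.mem _ hA (mul_mem (hE he) hs) g ?_
  rw [show g * (e * s) * g⁻¹ = g * e * g⁻¹ * (g * s * g⁻¹ * s⁻¹) * s by group]
  exact mul_mem (mul_mem (hE (hn e he)) (hE hg)) hs

/-- The step of the recursion. -/
theorem Ctrl.step [Finite G] (K : Ctrl A X) {H E : Subgroup G} (hE : E ≤ X)
    (hn : ∀ h ∈ H, ∀ e ∈ E, h * e * h⁻¹ ∈ E) {a b : G} (ha : a ∈ A) (haH : a ∈ H) (haX : a ∈ X)
    (hb : b ∈ A) (hbH : b ∈ H) (hbX : b ∈ X)
    (hodd : ∀ k ∈ H, k ∈ X → k * a * k⁻¹ * b⁻¹ ∉ E)
    (hrec : ∀ s ∈ H, s ∈ X → s ∉ E → s * s ∈ E →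
      (∃ k ∈ H, k ∈ X ∧ (k * a * k⁻¹ = a * s ∨ k * b * k⁻¹ = a * s)) →
      ∀ g ∈ H, g * s * g⁻¹ * s⁻¹ ∈ E → g ∈ X) :
    H ≤ X := by
  classical
  intro h hh
  by_contra hhX
  set c := h * b * h⁻¹ with hc
  have hcA : c ∈ A := K.conj b hb h
  have hcH : c ∈ H := mul_mem (mul_mem hh hbH) (inv_mem hh)
  have hcX : c ∉ X := fun hx => hhX (K.mem b hb hbX h hx)
  set d := a * c with hd
  have hdH : d ∈ H := mul_mem haH hcH
  have aa := K.sq a ha
  have cc := K.sq c hcA
  have ainv : a⁻¹ = a := inv_eq_of_mul_eq_one_right aa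
  have cinv : c⁻¹ = c := inv_eq_of_mul_eq_one_right cc
  have hada : ∀ r : ℕ, a * d ^ r * a = (d ^ r)⁻¹ := by
    intro r
    have e : a * d * a⁻¹ = d⁻¹ := by rw [hd, mul_inv_rev, ainv, cinv, ← mul_assoc, aa, one_mul]
    have := (conj_pow : (a * d * a⁻¹) ^ r = a * d ^ r * a⁻¹)
    rw [e, inv_pow, ainv] at this
    exact this.symm
  have hswap : ∀ r : ℕ, d ^ r * a = a * (d ^ r)⁻¹ := by
    intro r
    rw [← hada r, ← mul_assoc, ← mul_assoc, aa, one_mul]
  have hex : ∃ n, 0 < n ∧ d ^ n ∈ E := ⟨orderOf d, orderOf_pos d, by rw [pow_orderOf_eq_one]; exact one_mem _⟩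
  obtain ⟨hpos, hnE⟩ := Nat.find_spec hex
  set n := Nat.find hex with hndef
  rcases Nat.even_or_odd' n with ⟨m, e | e⟩
  · -- the middle element
    set s := d ^ m with hs
    have hsH : s ∈ H := pow_mem hdH m
    have hsE : s ∉ E := fun hx => Nat.find_min hex (show m < Nat.find hex by omega) ⟨by omega, hx⟩
    have hss : s * s = d ^ n := by rw [hs, ← pow_add, e, two_mul]
    have hsX : s ∈ X := by
      refine K.mem a ha haX s ?_
      have : s * a * s⁻¹ = d ^ n * a := by
        calc s * a * s⁻¹ = s * (a * (d ^ m)⁻¹) := by rw [hs, mul_assoc]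
          _ = s * (d ^ m * a) := by rw [hswap m]
          _ = d ^ n * a := by rw [← hs, ← mul_assoc, hss]
      rw [this]
      exact mul_mem (hE hnE) haX
    have hasX : a * s ∈ X := mul_mem haX hsX
    have hcon : ∃ k ∈ H, k ∈ X ∧ (k * a * k⁻¹ = a * s ∨ k * b * k⁻¹ = a * s) := by
      rcases Nat.even_or_odd' m with ⟨r, er | er⟩
      · have h1 : (d ^ r)⁻¹ * a * ((d ^ r)⁻¹)⁻¹ = a * s := by
          rw [inv_inv, show (d ^ r)⁻¹ * a = a * d ^ r by rw [← hada r, mul_assoc, aa, mul_one],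
            mul_assoc, ← pow_add, hs, er, two_mul]
        exact ⟨(d ^ r)⁻¹, inv_mem (pow_mem hdH r), K.mem a ha haX _ (h1 ▸ hasX), Or.inl h1⟩
      · have h1 : ((d ^ r)⁻¹ * h) * b * ((d ^ r)⁻¹ * h)⁻¹ = a * s := by
          rw [show ((d ^ r)⁻¹ * h) * b * ((d ^ r)⁻¹ * h)⁻¹ = (d ^ r)⁻¹ * (h * b * h⁻¹) * d ^ r by group,
            ← hc, show (d ^ r)⁻¹ * c = a * d ^ r * d by
              rw [← hada r, hd, mul_assoc (a * d ^ r) a c], mul_assoc, ← pow_succ', mul_assoc, ← pow_add,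
            hs, er, two_mul, add_assoc]
        exact ⟨(d ^ r)⁻¹ * h, mul_mem (inv_mem (pow_mem hdH r)) hh, K.mem b hb hbX _ (h1 ▸ hasX),
          Or.inr h1⟩
    refine hcX (hrec s hsH hsX hsE (hss ▸ hnE) hcon c hcH ?_)
    have h1 : c * s * c⁻¹ = s⁻¹ := by
      have h2 : c = a * d := by rw [hd, ← mul_assoc, aa, one_mul]
      rw [h2, mul_inv_rev, mul_assoc a d s, ← ((Commute.refl d).pow_right m).symm.eq, ← mul_assoc a s d,
        ← mul_assoc (a * s * d), mul_assoc (a * s) d, mul_inv_cancel, mul_one, ainv]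
      exact hada m
    rw [h1, ← mul_inv_rev, hss]
    exact inv_mem hnE
  · -- conjugate modulo `E`
    set k := d ^ m with hk
    have h1 : k * a * k⁻¹ = d ^ n * c := by
      have hc' : c = a * d := by rw [hd, ← mul_assoc, aa, one_mul]
      have hdc : d * c = a := by rw [hd, mul_assoc, cc, mul_one]
      rw [e, pow_succ, mul_assoc (d ^ (2 * m)), hdc, hk, mul_assoc, ← hswap m, ← mul_assoc, ← pow_add,
        two_mul]
    have h2 : (h⁻¹ * k) * a * (h⁻¹ * k)⁻¹ = h⁻¹ * d ^ n * h * b := by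
      rw [show (h⁻¹ * k) * a * (h⁻¹ * k)⁻¹ = h⁻¹ * (k * a * k⁻¹) * h by group, h1, hc]
      group
    have he : h⁻¹ * d ^ n * h ∈ E := by simpa using hn h⁻¹ (inv_mem hh) _ hnE
    have hkX : h⁻¹ * k ∈ X := K.mem a ha haX _ (h2 ▸ mul_mem (hE he) hbX)
    refine hodd _ (mul_mem (inv_mem hh) (pow_mem hdH m)) hkX ?_
    rw [h2, mul_inv_cancel_right]
    exact he

/-- With a second class whose centralisers lie in `X`, the subgroup is everything. -/
theorem eq_top_of_two [Finite G] [IsSimpleGroup G] {a b : G} (hbX : b ∈ X) (hb1 : b ≠ 1)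
    (aa : a * a = 1) (bb : b * b = 1) (hne : ¬ IsConj a b) (ha : ∀ g : G, Commute g a → g ∈ X)
    (hinv : ∀ r ∈ X, r * r = 1 → r ≠ 1 → ∀ g : G, Commute g r → g ∈ X) : X = ⊤ := by
  classical
  have hall : ∀ h : G, h * b * h⁻¹ ∈ X := by
    intro h
    by_contra hcX
    set c := h * b * h⁻¹ with hc
    have cc : c * c = 1 := by
      rw [hc, show h * b * h⁻¹ * (h * b * h⁻¹) = h * (b * b) * h⁻¹ by group, bb, mul_one, mul_inv_cancel]
    have ainv : a⁻¹ = a := inv_eq_of_mul_eq_one_right aa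
    have cinv : c⁻¹ = c := inv_eq_of_mul_eq_one_right cc
    set d := a * c with hd
    have e : a * d * a⁻¹ = d⁻¹ := by rw [hd, mul_inv_rev, ainv, cinv, ← mul_assoc, aa, one_mul]
    have hada : ∀ r : ℕ, a * d ^ r * a = (d ^ r)⁻¹ := by
      intro r
      have := (conj_pow : (a * d * a⁻¹) ^ r = a * d ^ r * a⁻¹)
      rw [e, inv_pow, ainv] at this
      exact this.symm
    rcases Nat.even_or_odd' (orderOf d) with ⟨m, he | he⟩
    · set r := d ^ m with hr
      have hm : m ≠ 0 := fun h0 => by have := orderOf_pos d; omega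
      have rr : r * r = 1 := by rw [hr, ← pow_add, ← two_mul, ← he, pow_orderOf_eq_one]
      have rinv : r⁻¹ = r := inv_eq_of_mul_eq_one_right rr
      have r1 : r ≠ 1 := fun h1 => by
        have := orderOf_le_of_pow_eq_one (Nat.pos_of_ne_zero hm) h1
        omega
      have hra : Commute r a := by
        have := hada m
        rw [← hr, rinv] at this
        show r * a = a * r
        conv_lhs => rw [← this, mul_assoc (a * r), aa, mul_one]
      refine hcX (hinv r (ha r hra) rr r1 c ?_)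
      have h2 : c = a * d := by rw [hd, ← mul_assoc, aa, one_mul]
      rw [h2]
      exact hra.symm.mul_left ((Commute.refl d).pow_right m)
    · refine hne (IsConj.trans ?_ (isConj_iff.2 ⟨h, rfl⟩ : IsConj b c).symm)
      refine isConj_iff.2 ⟨d ^ m, ?_⟩
      have hdc : d * c = a := by rw [hd, mul_assoc, cc, mul_one]
      have h3 : d ^ m * a = a * (d ^ m)⁻¹ := by rw [← hada m, ← mul_assoc, ← mul_assoc, aa, one_mul]
      have h4 : d ^ (2 * m + 1) = 1 := by rw [← he, pow_orderOf_eq_one]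
      calc d ^ m * a * (d ^ m)⁻¹ = d ^ m * (a * (d ^ m)⁻¹) := mul_assoc ..
        _ = d ^ m * (d ^ m * a) := by rw [h3]
        _ = d ^ (2 * m + 1) * c := by
          rw [← mul_assoc, ← pow_add, ← two_mul, pow_succ, mul_assoc (d ^ (2 * m)), hdc]
        _ = c := by rw [h4, one_mul]
  have hN : Subgroup.normalClosure {b} ≤ X := by
    refine (Subgroup.closure_le _).2 fun x hx => ?_
    obtain ⟨a', rfl, hconj⟩ := Group.mem_conjugatesOfSet_iff.1 hx
    obtain ⟨g, rfl⟩ := isConj_iff.1 hconj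
    exact hall g
  rcases (Subgroup.normalClosure_normal (s := {b})).eq_bot_or_eq_top with h1 | h1
  · exfalso
    have : b ∈ Subgroup.normalClosure {b} := Subgroup.subset_normalClosure rfl
    rw [h1, Subgroup.mem_bot] at this
    exact hb1 this
  · exact top_le_iff.1 (h1 ▸ hN)

end CfsgLib.HNRec
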